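import Cfsg.Agent.Transfer.PResidual
import Cfsg.Agent.Transfer.Basic
import Cfsg.Agent.Solvable.Basics
import Cfsg.Agent.FGSB.Small
import Cfsg.Agent.SmallSimple.Basic
import Mathlib.GroupTheory.SchurZassenhaus

/-!
# Cyclic Sylow subgroups and abelian subgroups of order prime to `p`: the simple configuration
-/

set_option autoImplicit false
set_option linter.unusedSectionVars false
set_option linter.style.haveILetI false

namespace CfsgLib.CyclicAbelian

open Subgroup

universe u

variable {G : Type u} [Group G] [Finite G] {p : ℕ} [hp : Fact p.Prime]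

/-- A `p`-element normalising a Sylow `p`-subgroup lies in it. -/
theorem mem_of_normalizes (P : Sylow p G) {x : G} (hx : ∃ k, orderOf x = p ^ k)
    (hn : x ∈ normalizer ((P : Subgroup G) : Set G)) : x ∈ (P : Subgroup G) := by
  obtain ⟨k, hk⟩ := hx
  have hxp : IsPGroup p (zpowers x) := IsPGroup.of_card ((Nat.card_zpowers x).trans hk)
  have h1 := IsPGroup.to_sup_of_normal_right' hxp P.2 (zpowers_le.2 hn)
  exact (P.3 h1 le_sup_right).le (mem_sup_left (mem_zpowers x))

/-- A `p`-element is not also of order prime to `p`, unless trivial. -/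
theorem eq_one_of_both {x : G} {k : ℕ} (hk : x ^ p ^ k = 1) (hc : (orderOf x).Coprime p) : x = 1 :=
  orderOf_eq_one_iff.1 (Nat.eq_one_of_dvd_coprimes (hc.pow_right k) dvd_rfl (orderOf_dvd_of_pow_eq_one hk))

theorem pow_card_sylow (P : Sylow p G) {x : G} (hx : x ∈ (P : Subgroup G)) :
    ∃ k, x ^ p ^ k = 1 ∧ orderOf x ∣ p ^ k := by
  obtain ⟨k, hk⟩ := IsPGroup.iff_card.1 P.2
  have h : orderOf x ∣ p ^ k := hk ▸ Subgroup.orderOf_dvd_natCard _ hx
  exact ⟨k, orderOf_dvd_iff_pow_eq_one.1 h, h⟩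

theorem exists_order_p (P : Sylow p G) {x : G} (hx : x ∈ (P : Subgroup G)) (hx1 : x ≠ 1) :
    ∃ y ∈ zpowers x, orderOf y = p := by
  obtain ⟨k, -, hk⟩ := pow_card_sylow P hx
  obtain ⟨j, -, hj⟩ := (Nat.dvd_prime_pow hp.out).1 hk
  have hj0 : j ≠ 0 := fun e => hx1 (orderOf_eq_one_iff.1 (by rw [hj, e, pow_zero]))
  obtain ⟨y, hy⟩ := exists_prime_orderOf_dvd_card' (G := zpowers x) p (by
    rw [Nat.card_zpowers, hj]; exact dvd_pow_self p hj0)
  exact ⟨y, y.2, by rw [Subgroup.orderOf_coe, hy]⟩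

/-- Elements of order `p` of a cyclic Sylow subgroup generate one subgroup. -/
theorem mem_zpowers_of_order_p (P : Sylow p G) (hP : IsCyclic P) {z x : G} (hz : z ∈ (P : Subgroup G))
    (hzo : orderOf z = p) (hx : x ∈ (P : Subgroup G)) (hxp : x ^ p = 1) : x ∈ zpowers z := by
  classical
  haveI := Fintype.ofFinite P
  have hsub : ∀ y ∈ zpowers z, y ∈ (P : Subgroup G) := zpowers_le.2 hz
  by_contra hxz
  have hcard : (Finset.univ.filter fun y : P => y ^ p = 1).card ≤ p := IsCyclic.card_pow_eq_one_le hp.out.pos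
  haveI := Fintype.ofFinite (zpowers z)
  let f : Option (zpowers z) → {y : P // y ^ p = 1} := fun o => match o with
    | none => ⟨⟨x, hx⟩, Subtype.ext hxp⟩
    | some y => ⟨⟨y, hsub y y.2⟩, Subtype.ext (by
        obtain ⟨i, hi⟩ := mem_zpowers_iff.1 y.2
        show (y : G) ^ p = 1
        rw [← hi, ← zpow_natCast, ← zpow_mul, mul_comm, zpow_mul, zpow_natCast, ← hzo, pow_orderOf_eq_one,
          one_zpow])⟩
  have hf : Function.Injective f := by
    intro a b e
    have e' := congrArg (fun w : {y : P // y ^ p = 1} => ((w.1 : P) : G)) e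
    match a, b with
    | none, none => rfl
    | none, some y => exact absurd (show x = (y : G) from e') (fun e => hxz (e ▸ y.2))
    | some y, none => exact absurd (show (y : G) = x from e') (fun e => hxz (e ▸ y.2))
    | some y, some y' => exact congrArg some (Subtype.ext (show (y : G) = y' from e'))
  have h1 := Nat.card_le_card_of_injective f hf
  rw [Finite.card_option, Nat.card_zpowers, hzo, Nat.card_eq_fintype_card, Fintype.card_subtype] at h1
  omega

/-- An element of order prime to `p` normalising a cyclic Sylow subgroup and centralising a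
non-trivial element of it centralises all of it. -/
theorem fpf (P : Sylow p G) (hP : IsCyclic P) {g x : G} (hg : g ∈ normalizer ((P : Subgroup G) : Set G))
    (hgp : (orderOf g).Coprime p) (hx : x ∈ (P : Subgroup G)) (hx1 : x ≠ 1) (hc : Commute g x) :
    ∀ y ∈ (P : Subgroup G), Commute g y := by
  haveI := hP
  obtain ⟨⟨z, hz⟩, hgen⟩ := IsCyclic.exists_generator (α := P)
  have hmem : ∀ y ∈ (P : Subgroup G), y ∈ zpowers z := fun y hy => by
    obtain ⟨i, hi⟩ := mem_zpowers_iff.1 (hgen ⟨y, hy⟩)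
    exact mem_zpowers_iff.2 ⟨i, congrArg Subtype.val hi⟩
  obtain ⟨k, -, hk⟩ := pow_card_sylow P hz
  obtain ⟨a, -, ha⟩ := (Nat.dvd_prime_pow hp.out).1 hk
  have h := CfsgLib.FGSBSmall.commute_of_fixed hp.out (k := orderOf g) ha
    (hmem _ ((mem_normalizer_iff.1 hg z).1 hz)) (hmem x hx) hx1 hc (hp.out.coprime_iff_not_dvd.1 hgp.symm)
    (by rw [pow_orderOf_eq_one]; exact Commute.one_left _)
  intro y hy
  obtain ⟨i, rfl⟩ := mem_zpowers_iff.1 (hmem y hy)
  exact h.zpow_right i

/-- Abelian subgroups generated by two elements of order prime to `p` one normalising the other. -/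
theorem commute_of_normalizes (hab : ∀ H : Subgroup G, ¬ p ∣ Nat.card H → IsMulCommutative H)
    {A : Subgroup G} (hA : (Nat.card A).Coprime p) {g : G} (hgp : (orderOf g).Coprime p)
    (hg : g ∈ normalizer (A : Set G)) : ∀ a ∈ A, Commute g a := by
  intro a ha
  have hd := CfsgLib.Solvable.card_sup_dvd (A := zpowers g) (K := A) (zpowers_le.2 hg)
  rw [Nat.card_zpowers] at hd
  have hcop := (hgp.mul_left hA).coprime_dvd_left hd
  haveI := hab _ (hp.out.coprime_iff_not_dvd.1 hcop.symm)
  exact congrArg Subtype.val (mul_comm' (⟨g, mem_sup_left (mem_zpowers g)⟩ : ↥(zpowers g ⊔ A)) ⟨a, mem_sup_right ha⟩)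

theorem zpowers_coprime {g : G} (hgp : (orderOf g).Coprime p) : (Nat.card (zpowers g)).Coprime p := by
  rwa [Nat.card_zpowers]

/-- A subgroup without elements of order `p` has order prime to `p`. -/
theorem coprime_of_no_p {H : Subgroup G} (h : ∀ x ∈ H, orderOf x ≠ p) : (Nat.card H).Coprime p := by
  refine (hp.out.coprime_iff_not_dvd.2 fun hd => ?_).symm
  obtain ⟨x, hx⟩ := exists_prime_orderOf_dvd_card' p hd
  exact h x x.2 (by rw [Subgroup.orderOf_coe, hx])

/-- If the normaliser acts trivially there is a complement; otherwise a `p'`-element moves `P`. -/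
theorem exists_mover (P : Sylow p G) (hP : IsCyclic P) (h : ¬ Cfsg.HasNormalPComplement p G) :
    ∃ t ∈ normalizer ((P : Subgroup G) : Set G), (orderOf t).Coprime p ∧
      ∀ x ∈ (P : Subgroup G), Commute t x → x = 1 := by
  obtain ⟨g, hg, hgC⟩ := SetLike.not_le_iff_exists.1 fun hle =>
    h (CfsgLib.TransferBasic.hasNormalPComplement_of_le_centralizer P hle)
  obtain ⟨a, b, hab, ha, hb, hap, hbp⟩ := CfsgLib.FGSBSmall.exists_prime_split hp.out g
  refine ⟨b, zpowers_le.2 hg hb, hbp, fun x hx hc => ?_⟩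
  by_contra hx1
  have hbC := fpf P hP (zpowers_le.2 hg hb) hbp hx hx1 hc
  have haP := mem_of_normalizes P hap (zpowers_le.2 hg ha)
  haveI := hP
  refine hgC (mem_centralizer_iff.2 fun y hy => ?_)
  have h1 : Commute a y := by
    letI : CommGroup P := IsCyclic.commGroup
    exact congrArg Subtype.val (mul_comm (⟨a, haP⟩ : P) ⟨y, hy⟩)
  rw [← hab]
  exact ((h1.mul_left (hbC y hy)).eq).symm

/-- The simple configuration left over by the induction. -/
structure Data (p : ℕ) {G : Type u} [Group G] (P : Sylow p G) : Prop where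
  odd : p ≠ 2
  simple : IsSimpleGroup G
  ncomm : ¬ IsMulCommutative G
  cyc : IsCyclic P
  abel : ∀ H : Subgroup G, ¬ p ∣ Nat.card H → IsMulCommutative H
  ne_bot : (P : Subgroup G) ≠ ⊥
  meet : ∀ g x : G, x ∈ (P : Subgroup G) → x ≠ 1 → g * x * g⁻¹ ∈ (P : Subgroup G) →
    g ∈ normalizer ((P : Subgroup G) : Set G)
  mover : ∃ t ∈ normalizer ((P : Subgroup G) : Set G), (orderOf t).Coprime p ∧
    ∀ x ∈ (P : Subgroup G), Commute t x → x = 1
  centralizer_le : ∀ y : G, (orderOf y).Coprime p → y ≠ 1 → (∀ x ∈ (P : Subgroup G), Commute y x) →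
    centralizer ({y} : Set G) ≤ normalizer ((P : Subgroup G) : Set G)

variable {P : Sylow p G} (D : Data p P)
include D

theorem Data.meet_eq {g x : G} (hx : x ∈ (P : Subgroup G)) (hx1 : x ≠ 1) (hc : Commute g x) :
    g ∈ normalizer ((P : Subgroup G) : Set G) :=
  D.meet g x hx hx1 (by rwa [hc.eq, mul_inv_cancel_right])

theorem Data.comm_mem {x y : G} (hx : x ∈ (P : Subgroup G)) (hy : y ∈ (P : Subgroup G)) : Commute x y := by
  haveI := D.cyc
  letI : CommGroup P := IsCyclic.commGroup
  exact congrArg Subtype.val (mul_comm (⟨x, hx⟩ : P) ⟨y, hy⟩)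

/-- An involution normalising `P` and fixing nothing inverts it. -/
theorem Data.inverts {s : G} (hs : s * s = 1) (hn : s ∈ normalizer ((P : Subgroup G) : Set G))
    (hfix : ∀ x ∈ (P : Subgroup G), Commute s x → x = 1) : ∀ x ∈ (P : Subgroup G), s * x * s⁻¹ = x⁻¹ := by
  intro x hx
  have hi : s⁻¹ = s := inv_eq_of_mul_eq_one_right hs
  have hx' : s * x * s⁻¹ ∈ (P : Subgroup G) := (mem_normalizer_iff.1 hn x).1 hx
  have h1 := hfix (x * (s * x * s⁻¹)) (mul_mem hx hx') (by
    show s * (x * (s * x * s⁻¹)) = x * (s * x * s⁻¹) * s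
    calc s * (x * (s * x * s⁻¹)) = s * x * s⁻¹ * (s * s * x) * s⁻¹ := by group
      _ = s * x * s⁻¹ * x * s := by rw [hs, one_mul, hi]
      _ = x * (s * x * s⁻¹) * s := by rw [(D.comm_mem hx' hx).eq])
  exact eq_inv_of_mul_eq_one_right h1

end CfsgLib.CyclicAbelian
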