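import Cfsg.Agent.FGSB.CyclicAbelian.Basic
import Cfsg.Agent.S3282
import Mathlib.GroupTheory.SpecificGroups.Cyclic

/-!
# The configuration in which a `p'`-element centralises `P`
-/

set_option autoImplicit false
set_option linter.unusedSectionVars false
set_option linter.style.haveILetI false

namespace CfsgLib.CyclicAbelian

open Subgroup

universe u

variable {G : Type u} [Group G] [Finite G] {p : ℕ} [hp : Fact p.Prime]

theorem centralized_false {P : Sylow p G} (D : Data p P) {y₀ : G} (hy₀p : (orderOf y₀).Coprime p)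
    (hy₀1 : y₀ ≠ 1) (hy₀ : ∀ x ∈ (P : Subgroup G), Commute y₀ x) : False := by
  classical
  haveI := D.simple
  set N := normalizer ((P : Subgroup G) : Set G) with hN
  set CP := centralizer ((P : Subgroup G) : Set G) with hCPdef
  have hPP : (P : Subgroup G) ≤ CP := fun x hx => mem_centralizer_iff.2 fun y hy => (D.comm_mem hy hx).eq
  -- the `p'`-part of the centraliser of `P`
  have hnpc : Cfsg.HasNormalPComplement p CP := by
    refine CfsgLib.TransferBasic.hasNormalPComplement_of_le_centralizer (P.subtype hPP) fun g _ => ?_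
    refine mem_centralizer_iff.2 fun y hy => Subtype.ext ?_
    exact mem_centralizer_iff.1 g.2 (y : G) hy
  set Kc := (Cfsg.pResidual p CP).map CP.subtype with hKc
  have hKcop : (Nat.card Kc).Coprime p := by
    rw [hKc, card_map_of_injective CP.subtype_injective]
    exact CfsgLib.PResidual.hasNormalPComplement_iff.1 hnpc
  have hKmem : ∀ w, w ∈ Kc ↔ (orderOf w).Coprime p ∧ ∀ x ∈ (P : Subgroup G), Commute w x := by
    intro w
    refine ⟨fun hw => ⟨hKcop.coprime_dvd_left (Subgroup.orderOf_dvd_natCard _ hw), ?_⟩, fun ⟨h1, h2⟩ => ?_⟩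
    · obtain ⟨w', -, rfl⟩ := hw
      exact fun x hx => (mem_centralizer_iff.1 w'.2 x hx).symm
    · refine ⟨⟨w, mem_centralizer_iff.2 fun x hx => (h2 x hx).eq.symm⟩, ?_, rfl⟩
      exact CfsgLib.PResidual.mem_pResidual p (by rw [← Subgroup.orderOf_coe]; exact h1)
  have hCN : CP ≤ N := centralizer_le_normalizer _
  have hKN : Kc ≤ N := (map_subtype_le _).trans hCN
  -- elements of order prime to `p` of `N` centralise `Kc`
  have hKnorm : ∀ g ∈ N, ∀ w ∈ Kc, g * w * g⁻¹ ∈ Kc := by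
    intro g hg w hw
    obtain ⟨h1, h2⟩ := (hKmem w).1 hw
    refine (hKmem _).2 ⟨by rw [← MulAut.conj_apply, MulEquiv.orderOf_eq]; exact h1, fun x hx => ?_⟩
    have h3 := (h2 (g⁻¹ * x * g) ((mem_normalizer_iff''.1 hg x).1 hx)).eq
    show g * w * g⁻¹ * x = x * (g * w * g⁻¹)
    calc g * w * g⁻¹ * x = g * (w * (g⁻¹ * x * g)) * g⁻¹ := by group
      _ = x * (g * w * g⁻¹) := by rw [h3]; group
  have hKcomm : ∀ g ∈ N, (orderOf g).Coprime p → ∀ w ∈ Kc, Commute g w := fun g hg hgp =>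
    commute_of_normalizes D.abel hKcop hgp (mem_normalizer_iff.2 fun w => ⟨hKnorm g hg w, fun h => by
      have := hKnorm g⁻¹ (inv_mem hg) _ h
      rwa [inv_inv, show g⁻¹ * (g * w * g⁻¹) * g = w by group] at this⟩)
  have hsplit : ∀ g ∈ N, ∃ a ∈ (P : Subgroup G), ∃ b ∈ N, (orderOf b).Coprime p ∧ g = a * b ∧
      b ∈ zpowers g := by
    intro g hg
    obtain ⟨a, b, hab, ha, hb, hap, hbp⟩ := CfsgLib.FGSBSmall.exists_prime_split hp.out g
    exact ⟨a, mem_of_normalizes P hap (zpowers_le.2 hg ha), b, zpowers_le.2 hg hb, hbp, hab.symm, hb⟩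
  have hCent : ∀ w ∈ Kc, w ≠ 1 → ∀ g, Commute g w ↔ g ∈ N := by
    intro w hw hw1 g
    refine ⟨fun h => D.centralizer_le w ((hKmem w).1 hw).1 hw1 ((hKmem w).1 hw).2
      (mem_centralizer_singleton_iff.2 h), fun hg => ?_⟩
    obtain ⟨a, ha, b, hb, hbp, rfl, -⟩ := hsplit g hg
    exact (((hKmem w).1 hw).2 a ha).symm.mul_left (hKcomm b hb hbp w hw)
  obtain ⟨z₀, hz₀P, hz₀⟩ : ∃ z ∈ (P : Subgroup G), orderOf z = p := by
    haveI : Nontrivial (P : Subgroup G) := (Subgroup.nontrivial_iff_ne_bot _).2 D.ne_bot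
    obtain ⟨x, hx⟩ := exists_ne (1 : (P : Subgroup G))
    obtain ⟨z, hz, hzo⟩ := exists_order_p P x.2 (fun e => hx (Subtype.ext e))
    exact ⟨z, zpowers_le.2 x.2 hz, hzo⟩
  have hz₀1 : z₀ ≠ 1 := fun e => hp.out.one_lt.ne (by rw [← hz₀, e, orderOf_one])
  set Z := zpowers z₀ with hZ
  have hNZ : N ≤ normalizer (Z : Set G) := by
    have h1 : ∀ g ∈ N, ∀ w ∈ Z, g * w * g⁻¹ ∈ Z := fun g hg w hw => by
      obtain ⟨i, rfl⟩ := mem_zpowers_iff.1 hw
      rw [← conj_zpow]
      refine zpow_mem (mem_zpowers_of_order_p P D.cyc hz₀P hz₀ ((mem_normalizer_iff.1 hg z₀).1 hz₀P) ?_) i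
      rw [conj_pow, ← hz₀, pow_orderOf_eq_one, mul_one, mul_inv_cancel]
    exact fun g hg => mem_normalizer_iff.2 fun w => ⟨h1 g hg w, fun h => by
      have := h1 g⁻¹ (inv_mem hg) _ h
      rwa [inv_inv, show g⁻¹ * (g * w * g⁻¹) * g = w by group] at this⟩
  let act : N →* MulAut Z := (normalizerMonoidHom Z).comp (Subgroup.inclusion hNZ)
  have hact : ∀ (g : N) , act g = 1 → (orderOf (g : G)).Coprime p → (g : G) ∈ Kc := by
    intro g hg hgp
    refine (hKmem _).2 ⟨hgp, fpf P D.cyc g.2 hgp hz₀P hz₀1 ?_⟩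
    have h := congrArg (fun f : MulAut Z => ((f ⟨z₀, mem_zpowers z₀⟩ : Z) : G)) hg
    exact mul_inv_eq_iff_eq_mul.1 (show (g : G) * z₀ * (g : G)⁻¹ = z₀ from h)
  have hact' : ∀ (g : N), (g : G) ∈ Kc → act g = 1 := fun g hg => MulEquiv.ext fun w => Subtype.ext (by
    show (g : G) * (w : G) * (g : G)⁻¹ = w
    rw [(((hKmem _).1 hg).2 w (zpowers_le.2 hz₀P w.2)).eq, mul_inv_cancel_right])
  have hZp : Nat.card Z = p := by rw [hZ, Nat.card_zpowers, hz₀]
  haveI : IsCyclic Z := inferInstance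
  have hcardAut : Nat.card (MulAut Z) = p - 1 := by
    rw [IsCyclic.card_mulAut, hZp, Nat.totient_prime hp.out]
  haveI hAutCyc : IsCyclic (MulAut Z) := by
    have e := IsCyclic.mulAutMulEquiv (G := Z)
    haveI : Fact (Nat.card Z).Prime := ⟨by rw [hZp]; exact hp.out⟩
    exact isCyclic_of_injective e.toMonoidHom e.injective
  haveI := Fintype.ofFinite (MulAut Z)
  have hAutTor : ∀ n : ℕ, 0 < n → Nat.card {a : MulAut Z // a ^ n = 1} ≤ n := fun n hn => by
    rw [Nat.card_eq_fintype_card, Fintype.card_subtype]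
    exact IsCyclic.card_pow_eq_one_le hn
  -- the main count at a prime
  have hmain : ∀ (r : ℕ) (y : G), r.Prime → y ∈ Kc → orderOf y = r →
      r = 2 ∧ p = 3 ∧ ∃ (R : Subgroup G) (u : G), y ∈ R ∧ Nat.card R = 4 ∧ (∀ a ∈ R, a * a = 1) ∧
        R ≤ N ∧ (∀ g, (∀ a ∈ R, Commute g a) → g ∈ R) ∧ u ∈ normalizer (R : Set G) ∧
        (∀ a ∈ R, Commute u a → a = 1) ∧ orderOf u ≠ 1 ∧ Odd (orderOf u) ∧
        u * y * u⁻¹ ∉ Kc ∧ Nat.card Kc ≤ 2 := by
    intro r y hr hy hyr
    haveI : Fact r.Prime := ⟨hr⟩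
    have hy1 : y ≠ 1 := fun e => hr.one_lt.ne (by rw [← hyr, e, orderOf_one])
    have hyc := (hKmem y).1 hy
    have hrp : r ≠ p := fun e => by
      have h1 := hyc.1
      rw [hyr, e] at h1
      exact hp.out.one_lt.ne' (by simpa using h1)
    obtain ⟨Rs, hRs⟩ := (IsPGroup.of_card (p := r) (n := 1)
      ((Nat.card_zpowers y).trans (hyr.trans (pow_one r).symm))).exists_le_sylow
    set R := (Rs : Subgroup G) with hR
    have hyR : y ∈ R := hRs (mem_zpowers y)
    have hRcop : (Nat.card R).Coprime p := by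
      obtain ⟨k, hk⟩ := IsPGroup.iff_card.1 Rs.2
      rw [hk]; exact ((Nat.coprime_primes hr hp.out).2 hrp).pow_left k
    haveI hRab := D.abel R (hp.out.coprime_iff_not_dvd.1 hRcop.symm)
    have hRcomm : ∀ a ∈ R, ∀ b ∈ R, Commute a b := fun a ha b hb =>
      congrArg Subtype.val (mul_comm' (⟨a, ha⟩ : R) ⟨b, hb⟩)
    have hRN : R ≤ N := fun a ha => (hCent y hy hy1 a).1 (hRcomm a ha y hyR)
    have hRp : ∀ a ∈ R, (orderOf a).Coprime p := fun a ha => hRcop.coprime_dvd_left (Subgroup.orderOf_dvd_natCard _ ha)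
    obtain ⟨u, huN, hup, huC⟩ : ∃ u ∈ normalizer (R : Set G), (∃ k, orderOf u = p ^ k) ∧
        ∃ a ∈ R, ¬ Commute u a := by
      have h1 : 1 < Nat.card R := by
        haveI : Nontrivial R := ⟨⟨⟨y, hyR⟩, 1, fun e => hy1 (congrArg Subtype.val e)⟩⟩
        exact Finite.one_lt_card
      have h2 : Nat.card R < Nat.card G := by
        refine lt_of_le_of_ne (Subgroup.card_le_card_group _) fun e => ?_
        exact hp.out.coprime_iff_not_dvd.1 hRcop.symm (e ▸ hz₀ ▸ _root_.orderOf_dvd_natCard z₀)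
      obtain ⟨g, hg, hgC⟩ := SetLike.not_le_iff_exists.1 (CfsgLib.SmallSimple.not_le_centralizer Rs h1 h2)
      obtain ⟨a, b, hab, ha, hb, hap, hbp⟩ := CfsgLib.FGSBSmall.exists_prime_split hp.out g
      refine ⟨a, zpowers_le.2 hg ha, hap, ?_⟩
      by_contra hcon
      push Not at hcon
      refine hgC (mem_centralizer_iff.2 fun w hw => ?_)
      rw [← hab]
      exact ((hcon w hw).mul_left (commute_of_normalizes D.abel hRcop hbp (zpowers_le.2 hg hb) w hw)).eq.symm
    obtain ⟨a₀, ha₀, ha₀u⟩ := huC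
    have huN' : u ∉ N := fun h => by
      have huP := mem_of_normalizes P hup h
      have h1 : u * a₀ * u⁻¹ * a₀⁻¹ ∈ R := mul_mem ((mem_normalizer_iff.1 huN a₀).1 ha₀) (inv_mem ha₀)
      have h2 : u * a₀ * u⁻¹ * a₀⁻¹ ∈ (P : Subgroup G) := by
        rw [show u * a₀ * u⁻¹ * a₀⁻¹ = u * (a₀ * u⁻¹ * a₀⁻¹) by group]
        exact mul_mem huP ((mem_normalizer_iff.1 (hRN ha₀) _).1 (inv_mem huP))
      obtain ⟨k, hk, -⟩ := pow_card_sylow P h2
      exact ha₀u (mul_inv_eq_iff_eq_mul.1 (mul_inv_eq_one.1 (eq_one_of_both hk (hRp _ h1))))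
    have hback : ∀ x ∈ (P : Subgroup G), x ≠ 1 → u * x * u⁻¹ ∈ N → False := fun x hx hx1 h => by
      obtain ⟨k, hk, hkd⟩ := pow_card_sylow P hx
      obtain ⟨j, -, hj⟩ := (Nat.dvd_prime_pow hp.out).1 hkd
      exact huN' (D.meet u x hx hx1 (mem_of_normalizes P ⟨j, by rw [← MulAut.conj_apply, MulEquiv.orderOf_eq, hj]⟩ h))
    obtain ⟨ρ, hρ, hρP⟩ : ∃ ρ ∈ R, ρ ∉ Kc := by
      by_contra hcon
      push Not at hcon
      refine hback z₀ hz₀P hz₀1 ((hCent y hy hy1 _).1 ?_)
      have h2 : u⁻¹ * y * u ∈ R := (mem_normalizer_iff''.1 huN y).1 hyR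
      have h3 := (((hKmem _).1 (hcon _ h2)).2 z₀ hz₀P).eq
      show u * z₀ * u⁻¹ * y = y * (u * z₀ * u⁻¹)
      calc u * z₀ * u⁻¹ * y = u * (z₀ * (u⁻¹ * y * u)) * u⁻¹ := by group
        _ = y * (u * z₀ * u⁻¹) := by rw [← h3]; group
    set H := centralizer (R : Set G) with hH
    have hHcomm : ∀ g ∈ H, ∀ a ∈ R, Commute g a := fun g hg a ha => (mem_centralizer_iff.1 hg a ha).symm
    have hHN : H ≤ N := fun g hg => (hCent y hy hy1 g).1 (hHcomm g hg y hyR)
    have hHcop : (Nat.card H).Coprime p := coprime_of_no_p fun x hx hxo => by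
      have hxP := mem_of_normalizes P ⟨1, by rw [hxo, pow_one]⟩ (hHN hx)
      exact hρP ((hKmem ρ).2 ⟨hRp ρ hρ, fpf P D.cyc (hRN hρ) (hRp ρ hρ) hxP
        (fun e => hp.out.one_lt.ne (by rw [← hxo, e, orderOf_one])) (hHcomm x hx ρ hρ).symm⟩)
    have hHp : ∀ a ∈ H, (orderOf a).Coprime p := fun a ha => hHcop.coprime_dvd_left (Subgroup.orderOf_dvd_natCard _ ha)
    have hRH : R ≤ H := fun a ha => mem_centralizer_iff.2 fun b hb => hRcomm b hb a ha
    have hKH : Kc ≤ H := fun w hw => mem_centralizer_iff.2 fun a ha => (hKcomm a (hRN ha) (hRp a ha) w hw).eq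
    have huH : ∀ w ∈ H, u * w * u⁻¹ ∈ H := fun w hw => mem_centralizer_iff.2 fun a ha => by
      have h3 := mem_centralizer_iff.1 hw _ ((mem_normalizer_iff''.1 huN a).1 ha)
      calc a * (u * w * u⁻¹) = u * (u⁻¹ * a * u * w) * u⁻¹ := by group
        _ = u * w * u⁻¹ * a := by rw [h3]; group
    -- conjugates of `Kc` by `u` meet it trivially
    have hdisj : ∀ w ∈ Kc, u * w * u⁻¹ ∈ Kc → w = 1 := by
      intro w hw hw'
      by_contra hw1
      refine huN' ?_
      have h1 : u⁻¹ * z₀ * u ∈ N := (hCent w hw hw1 _).1 (by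
        have h3 := (((hKmem _).1 hw').2 z₀ hz₀P).eq
        show u⁻¹ * z₀ * u * w = w * (u⁻¹ * z₀ * u)
        calc u⁻¹ * z₀ * u * w = u⁻¹ * (z₀ * (u * w * u⁻¹)) * u := by group
          _ = w * (u⁻¹ * z₀ * u) := by rw [← h3]; group)
      have h4 := mem_of_normalizes P ⟨1, by
        have := MulEquiv.orderOf_eq (MulAut.conj u⁻¹) z₀
        rw [MulAut.conj_apply, inv_inv] at this
        rw [this, pow_one, hz₀]⟩ h1
      have h5 : u * (u⁻¹ * z₀ * u) * u⁻¹ ∈ (P : Subgroup G) := by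
        rwa [show u * (u⁻¹ * z₀ * u) * u⁻¹ = z₀ by group]
      exact D.meet u _ h4 (fun e => hz₀1 (by
        have h6 := congrArg (fun t => u * t * u⁻¹) e
        simpa [mul_assoc] using h6)) h5
    let j : H →* MulAut Z := act.comp (Subgroup.inclusion hHN)
    have hjker : ∀ w : H, j w = 1 → (w : G) ∈ Kc := fun w hw => hact _ hw (hHp w w.2)
    let k : Kc →* MulAut Z := MonoidHom.mk' (fun w => j ⟨u * w * u⁻¹, huH w (hKH w.2)⟩) fun a b => by
      rw [← map_mul]; congr 1; exact Subtype.ext (by simp [mul_assoc])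
    have hk : Function.Injective k := (injective_iff_map_eq_one k).2 fun w hw =>
      Subtype.ext (hdisj w w.2 (hjker _ hw))
    have hKc2 : Nat.card Kc ≤ p - 1 := hcardAut ▸ Nat.card_le_card_of_injective _ hk
    have hrdvd : r ∣ p - 1 := by
      rw [← hcardAut, ← hyr, show orderOf y = orderOf (⟨y, hy⟩ : Kc) from (Subgroup.orderOf_coe ⟨y, hy⟩),
        ← orderOf_injective k hk]
      exact _root_.orderOf_dvd_natCard _
    have hrlt : r < p := lt_of_le_of_lt (Nat.le_of_dvd (Nat.sub_pos_of_lt hp.out.one_lt) hrdvd)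
      (Nat.sub_lt hp.out.pos Nat.one_pos)
    -- the elements of order `r` in `R`
    let Ω : Subgroup G :=
      { carrier := {a | a ∈ R ∧ a ^ r = 1}
        one_mem' := ⟨one_mem _, one_pow _⟩
        mul_mem' := fun {a b} ha hb => ⟨mul_mem ha.1 hb.1, by
          rw [(hRcomm a ha.1 b hb.1).mul_pow, ha.2, hb.2, one_mul]⟩
        inv_mem' := fun {a} ha => ⟨inv_mem ha.1, by rw [inv_pow, ha.2, inv_one]⟩ }
    have hΩle : Nat.card Ω ≤ r * r := by
      let jΩ : Ω →* MulAut Z := j.comp (Subgroup.inclusion (fun a ha => hRH ha.1))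
      have e : Nat.card Ω = Nat.card jΩ.range * Nat.card jΩ.ker := by
        rw [← Subgroup.index_ker, mul_comm, Subgroup.card_mul_index]
      rw [e]
      refine Nat.mul_le_mul ?_ ?_
      · refine le_trans (Nat.card_le_card_of_injective (fun a : jΩ.range => (⟨a.1, ?_⟩ : {a : MulAut Z // a ^ r = 1}))
          fun a b e => Subtype.ext (by simpa using congrArg Subtype.val e)) (hAutTor r hr.pos)
        obtain ⟨w, hw⟩ := a.2
        rw [← hw, ← map_pow, show w ^ r = 1 from Subtype.ext w.2.2, map_one]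
      · refine le_trans (Nat.card_le_card_of_injective (fun a : jΩ.ker =>
          (⟨k ⟨(a.1 : G), hjker _ a.2⟩, ?_⟩ : {a : MulAut Z // a ^ r = 1}))
          fun a b e => ?_) (hAutTor r hr.pos)
        · rw [← map_pow, show (⟨(a.1 : G), hjker _ a.2⟩ : Kc) ^ r = 1 from Subtype.ext a.1.2.2, map_one]
        · have h1 := hk (congrArg Subtype.val e)
          exact Subtype.ext (Subtype.ext (congrArg (fun z : Kc => (z : G)) h1))
    obtain ⟨ku, hku⟩ := hup
    have hrpk : r.Coprime (p ^ ku) := ((Nat.coprime_primes hr hp.out).2 hrp).pow_right ku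
    have hfixall : ∀ (m : ℕ) (a : G), a ∈ R → a ^ r ^ m = 1 → (∀ w ∈ Ω, Commute u w) → Commute u a := by
      intro m
      induction m with
      | zero => intro a _ ha _; rw [pow_zero, pow_one] at ha; rw [ha]; exact Commute.one_right u
      | succ m ih =>
        intro a ha ham hΩ
        set d := u * a * u⁻¹ * a⁻¹ with hd
        have hd' : u * a * u⁻¹ ∈ R := (mem_normalizer_iff.1 huN a).1 ha
        have hdR : d ∈ R := mul_mem hd' (inv_mem ha)
        have har : Commute u (a ^ r) := ih _ (pow_mem ha r) (by rw [← pow_mul, ← pow_succ']; exact ham) hΩ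
        have hdr : d ^ r = 1 := by
          rw [hd, (hRcomm _ hd' _ (inv_mem ha)).mul_pow, conj_pow, har.eq, mul_inv_cancel_right, inv_pow,
            mul_inv_cancel]
        have hud := hΩ d ⟨hdR, hdr⟩
        have hit : ∀ i : ℕ, u ^ i * a * (u ^ i)⁻¹ = d ^ i * a := by
          intro i
          induction i with
          | zero => simp
          | succ i ihi =>
            calc u ^ (i + 1) * a * (u ^ (i + 1))⁻¹ = u * (u ^ i * a * (u ^ i)⁻¹) * u⁻¹ := by rw [pow_succ']; group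
              _ = u * d ^ i * (a * u⁻¹) := by rw [ihi]; group
              _ = d ^ i * (u * a * u⁻¹ * a⁻¹) * a := by rw [(hud.pow_right i).eq]; group
              _ = d ^ (i + 1) * a := by rw [pow_succ]
        have h2 := hit (p ^ ku)
        rw [← hku, pow_orderOf_eq_one, one_mul, inv_one, mul_one] at h2
        have h3 : d ^ orderOf u = 1 := mul_eq_right.1 h2.symm
        have h4 : d = 1 := orderOf_eq_one_iff.1 (Nat.eq_one_of_dvd_coprimes (hku ▸ hrpk)
          (orderOf_dvd_of_pow_eq_one hdr) (orderOf_dvd_of_pow_eq_one h3))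
        exact mul_inv_eq_iff_eq_mul.1 (mul_inv_eq_one.1 h4)
    have huΩ : ∀ w ∈ Ω, u * w * u⁻¹ ∈ Ω := fun w hw =>
      ⟨(mem_normalizer_iff.1 huN w).1 hw.1, by rw [conj_pow, hw.2, mul_one, mul_inv_cancel]⟩
    let F : Subgroup G := Ω ⊓ centralizer ({u} : Set G)
    have hFne : Nat.card F < Nat.card Ω := by
      refine CfsgLib.Solvable.card_lt_of_lt (inf_le_left.lt_of_ne fun e => ha₀u ?_)
      obtain ⟨m, hm⟩ := IsPGroup.iff_card.1 Rs.2
      refine hfixall m a₀ ha₀ ?_ fun w hw => (mem_centralizer_singleton_iff.1 (mem_inf.1 (e.ge hw : w ∈ F)).2).symm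
      have : (⟨a₀, ha₀⟩ : R) ^ Nat.card R = 1 := pow_card_eq_one'
      rw [show Nat.card R = r ^ m from hm] at this
      exact congrArg Subtype.val this
    have hmod : Nat.card Ω ≡ Nat.card F [MOD p] := by
      let σ : Equiv.Perm Ω := Equiv.ofBijective (fun t => ⟨u * t * u⁻¹, huΩ t t.2⟩)
        (Finite.injective_iff_bijective.1 fun t t' e => Subtype.ext (mul_left_cancel (mul_right_cancel
          (congrArg Subtype.val e))))
      have hit : ∀ (i : ℕ) (t : Ω), (((σ ^ i) t : Ω) : G) = u ^ i * t * (u ^ i)⁻¹ := by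
        intro i
        induction i with
        | zero => simp
        | succ i ih =>
          intro t
          rw [pow_succ', Equiv.Perm.mul_apply]
          show u * _ * u⁻¹ = _
          rw [ih, pow_succ']
          group
      have hσ : σ ^ p ^ ku = 1 := Equiv.ext fun t => Subtype.ext (by
        rw [hit, ← hku, pow_orderOf_eq_one, one_mul, inv_one, mul_one, Equiv.Perm.one_apply])
      have hG : IsPGroup p (zpowers σ) := fun w => ⟨ku, Subtype.ext (by
        obtain ⟨i, hi⟩ := mem_zpowers_iff.1 w.2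
        show (w : Equiv.Perm Ω) ^ p ^ ku = 1
        rw [← hi, ← zpow_natCast, ← zpow_mul, mul_comm, zpow_mul, zpow_natCast, hσ, one_zpow])⟩
      have e : MulAction.fixedPoints (zpowers σ) Ω ≃ F := {
        toFun := fun t => ⟨t.1.1, mem_inf.2 ⟨t.1.2, mem_centralizer_singleton_iff.2
          (mul_inv_eq_iff_eq_mul.1 (congrArg Subtype.val (t.2 ⟨σ, mem_zpowers σ⟩) :
            u * (t.1 : G) * u⁻¹ = t.1)).symm⟩⟩
        invFun := fun t => ⟨⟨t.1, (mem_inf.1 t.2).1⟩, fun w => by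
          have h1 : σ ⟨t.1, (mem_inf.1 t.2).1⟩ = ⟨t.1, (mem_inf.1 t.2).1⟩ := Subtype.ext (by
            show u * (t.1 : G) * u⁻¹ = t.1
            rw [← mem_centralizer_singleton_iff.1 (mem_inf.1 t.2).2, mul_inv_cancel_right])
          have h2 : zpowers σ ≤ MulAction.stabilizer (Equiv.Perm Ω) (⟨t.1, (mem_inf.1 t.2).1⟩ : Ω) :=
            zpowers_le.2 h1
          exact h2 w.2⟩
        left_inv := fun t => rfl
        right_inv := fun t => rfl }
      exact Nat.card_congr e ▸ hG.card_modEq_card_fixedPoints Ω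
    obtain ⟨a, ha⟩ := IsPGroup.iff_card.1 (Rs.2.to_le (fun w hw => hw.1 : Ω ≤ R))
    obtain ⟨b, hb⟩ := IsPGroup.iff_card.1 (Rs.2.to_le (fun w hw => (mem_inf.1 hw).1.1 : F ≤ R))
    rw [ha, hb, Nat.pow_lt_pow_iff_right hr.one_lt] at hFne
    rw [ha, ← pow_two, Nat.pow_le_pow_iff_right hr.one_lt] at hΩle
    rw [ha, hb] at hmod
    have hdvd := (Nat.modEq_iff_dvd' (Nat.pow_le_pow_right hr.pos hFne.le)).1 hmod.symm
    have hnr1 : ¬ p ∣ r - 1 := fun h =>
      absurd (Nat.le_of_dvd (Nat.sub_pos_of_lt hr.one_lt) h) (by omega)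
    obtain ⟨rfl, rfl⟩ : a = 2 ∧ b = 0 := by
      rcases (show (a = 1 ∧ b = 0) ∨ (a = 2 ∧ b = 0) ∨ (a = 2 ∧ b = 1) by omega) with ⟨h1, h2⟩ | h | ⟨h1, h2⟩
      · subst h1 h2; exact absurd (by simpa using hdvd) hnr1
      · exact h
      · subst h1 h2
        rw [show r ^ 2 - r ^ 1 = r * (r - 1) by rw [Nat.mul_sub, pow_two, pow_one, mul_one]] at hdvd
        exact absurd ((hp.out.dvd_mul.1 hdvd).resolve_left fun h => by
          have := Nat.le_of_dvd hr.pos h; omega) hnr1
    have hpr : p = r + 1 := by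
      rw [pow_zero, show r ^ 2 - 1 = (r + 1) * (r - 1) by rw [← Nat.sq_sub_sq, one_pow]] at hdvd
      have := Nat.le_of_dvd (Nat.succ_pos r) ((hp.out.dvd_mul.1 hdvd).resolve_right hnr1)
      omega
    have hr2 : r = 2 := by
      by_contra h
      have h1 := hr.odd_of_ne_two h
      have h2 := hp.out.odd_of_ne_two D.odd
      rw [hpr] at h2
      exact (Nat.not_odd_iff_even.2 h1.add_one) h2
    subst hr2
    have hp3 : p = 3 := hpr
    refine ⟨rfl, hp3, ?_⟩
    have hH4 : Nat.card H ≤ 2 * 2 := by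
      have e : Nat.card H = Nat.card j.range * Nat.card j.ker := by
        rw [← Subgroup.index_ker, mul_comm, Subgroup.card_mul_index]
      rw [e]
      refine Nat.mul_le_mul ((Subgroup.card_le_card_group _).trans (by rw [hcardAut, hp3])) ?_
      refine le_trans (Nat.card_le_card_of_injective (fun a : j.ker => (⟨((a.1 : H) : G), hjker _ a.2⟩ : Kc))
        fun a b e => Subtype.ext (Subtype.ext (congrArg (fun z : Kc => (z : G)) e))) (hKc2.trans (by rw [hp3]))
    have hΩR : Ω = R := eq_of_le_of_card_ge (fun w hw => hw.1) ((card_le_of_le hRH).trans (hH4.trans_eq (by rw [ha]; rfl)))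
    have hR4 : Nat.card R = 4 := by rw [← hΩR, ha]; rfl
    have hF1 : F = ⊥ := eq_bot_of_card_eq _ (by rw [hb, pow_zero])
    have hHR : H = R := (eq_of_le_of_card_ge hRH (hR4 ▸ hH4)).symm
    refine ⟨R, u, hyR, hR4, fun a ha => ?_, hRN, fun g hg => hHR ▸ mem_centralizer_iff.2 fun a ha => (hg a ha).eq.symm,
      huN, fun a ha hc => ?_, fun e => huN' (by rw [orderOf_eq_one_iff.1 e]; exact one_mem N), ?_,
      fun h => hy1 (hdisj y hy h), hKc2.trans (by rw [hp3])⟩
    · rw [← pow_two]; exact (hΩR.ge ha : a ∈ Ω).2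
    · have hmem : a ∈ F := mem_inf.2 ⟨hΩR.ge ha, mem_centralizer_singleton_iff.2 hc.symm⟩
      rw [hF1, mem_bot] at hmem
      exact hmem
    · rw [hku]; exact (hp.out.odd_of_ne_two D.odd).pow
  -- specialise
  obtain ⟨r, hr, hrd⟩ := Nat.exists_prime_and_dvd (fun e => hy₀1 (orderOf_eq_one_iff.1 e))
  have hy₀K : y₀ ∈ Kc := (hKmem y₀).2 ⟨hy₀p, hy₀⟩
  set y := y₀ ^ (orderOf y₀ / r) with hydef
  have hy : y ∈ Kc := pow_mem hy₀K _
  obtain ⟨rfl, rfl, R, u, hyR, hR4, hR2, hRN, hRC, huN, hufix, hu1, huodd, hyu, hK2⟩ :=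
    hmain r y hr hy (orderOf_pow_orderOf_div (orderOf_pos y₀).ne' hrd)
  have hy1 : y ≠ 1 := fun e => by
    have h := orderOf_pow_orderOf_div (orderOf_pos y₀).ne' hrd
    rw [← hydef, e, orderOf_one] at h
    omega
  have hy2 : orderOf y = 2 := orderOf_eq_prime (by rw [pow_two]; exact hR2 y hyR) hy1
  have hKy : ∀ w ∈ Kc, w ≠ 1 → w = y := by
    intro w hw hw1
    by_contra hne
    have h3 : 3 ≤ Nat.card Kc := by
      let f : Fin 3 → Kc := ![1, ⟨y, hy⟩, ⟨w, hw⟩]
      have hf : Function.Injective f := by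
        intro a b e
        have e' := congrArg Subtype.val e
        fin_cases a <;> fin_cases b <;> simp [f, hy1, hw1, hne, Ne.symm hy1, Ne.symm hw1, Ne.symm hne] at e' ⊢
      simpa using Nat.card_le_card_of_injective f hf
    omega
  set s := u * y * u⁻¹ with hs
  have hsR : s ∈ R := (mem_normalizer_iff.1 huN y).1 hyR
  have hs2 : s * s = 1 := hR2 s hsR
  have hs1 : s ≠ 1 := fun e => hyu (by rw [e]; exact one_mem _)
  have hso : orderOf s = 2 := orderOf_eq_prime (by rw [pow_two]; exact hs2) hs1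
  have hRp : ∀ a ∈ R, (orderOf a).Coprime 3 := fun a ha => by
    refine Nat.Coprime.coprime_dvd_left (orderOf_dvd_of_pow_eq_one (n := 2) ?_) (by norm_num)
    rw [pow_two]; exact hR2 a ha
  have hsfix : ∀ x ∈ (P : Subgroup G), Commute s x → x = 1 := fun x hx hc => by
    by_contra hx1
    exact hyu ((hKmem s).2 ⟨hRp s hsR, fpf P D.cyc (hRN hsR) (hRp s hsR) hx hx1 hc⟩)
  have hsP := D.inverts hs2 (hRN hsR) hsfix
  have hCPsplit : ∀ g ∈ CP, ∃ a ∈ (P : Subgroup G), ∃ b ∈ Kc, g = a * b := by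
    intro g hg
    obtain ⟨a, ha, b, hb, hbp, rfl, -⟩ := hsplit g (hCN hg)
    refine ⟨a, ha, b, (hKmem b).2 ⟨hbp, fun x hx => ?_⟩, rfl⟩
    have hbC : b ∈ CP := by
      have := mul_mem (inv_mem (hPP ha)) hg
      rwa [inv_mul_cancel_left] at this
    exact (mem_centralizer_iff.1 hbC x hx).symm
  have hKsq : ∀ b ∈ Kc, b * b = 1 := fun b hb => by
    by_cases h : b = 1
    · rw [h, one_mul]
    · rw [hKy b hb h]; exact hR2 y hyR
  have hKR : ∀ b ∈ Kc, b ∈ R := fun b hb => by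
    by_cases h : b = 1
    · rw [h]; exact one_mem R
    · rw [hKy b hb h]; exact hyR
  have hRcomm : ∀ a ∈ R, ∀ b ∈ R, Commute a b := fun a ha b hb => by
    have h1 := hR2 (a * b) (mul_mem ha hb)
    calc a * b = (a * b)⁻¹ := eq_inv_of_mul_eq_one_left h1
      _ = b * a := by rw [mul_inv_rev, inv_eq_of_mul_eq_one_right (hR2 a ha), inv_eq_of_mul_eq_one_right (hR2 b hb)]
  have hcyN : centralizer ({y} : Set G) = N := by
    ext g; rw [mem_centralizer_singleton_iff]; exact hCent y hy hy1 g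
  haveI hCPab : IsMulCommutative CP := ⟨⟨fun g h => Subtype.ext (by
    obtain ⟨a, ha, b, hb, hg⟩ := hCPsplit g.1 g.2
    obtain ⟨a', ha', b', hb', hh⟩ := hCPsplit h.1 h.2
    show g.1 * h.1 = h.1 * g.1
    rw [hg, hh]
    exact (((D.comm_mem ha ha').mul_right (((hKmem b').1 hb').2 a ha).symm).mul_left
      ((((hKmem b).1 hb).2 a' ha').mul_right (hRcomm b (hKR b hb) b' (hKR b' hb')))).eq)⟩⟩
  have hRelems : ∀ a ∈ R, a = 1 ∨ a = y ∨ a = s ∨ a = y * s := by
    intro a ha
    by_contra hcon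
    push Not at hcon
    obtain ⟨h1, h2, h3, h4⟩ := hcon
    have hys : y ≠ s := fun e => hyu (e ▸ hy)
    have hys1 : y * s ≠ 1 := fun e => hys ((eq_inv_of_mul_eq_one_left e).trans (inv_eq_of_mul_eq_one_right hs2))
    have hysy : y * s ≠ y := fun e => hs1 (mul_eq_left.1 e)
    have hyss : y * s ≠ s := fun e => hy1 (mul_eq_right.1 e)
    let f : Fin 5 → R := ![1, ⟨y, hyR⟩, ⟨s, hsR⟩, ⟨y * s, mul_mem hyR hsR⟩, ⟨a, ha⟩]
    have hf : Function.Injective f := by
      intro i k e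
      have e' := congrArg Subtype.val e
      fin_cases i <;> fin_cases k <;>
        simp [f, h1, h2, h3, h4, hy1, hs1, hys, hys1, hysy, hyss, Ne.symm h1, Ne.symm h2, Ne.symm h3, Ne.symm h4,
          Ne.symm hy1, Ne.symm hs1, Ne.symm hys, Ne.symm hys1, Ne.symm hysy, Ne.symm hyss] at e' ⊢
    have := Nat.card_le_card_of_injective f hf
    rw [hR4, Nat.card_fin] at this
    omega
  have hyKs : y ∈ CP := mem_centralizer_iff.2 fun x hx => (((hKmem y).1 hy).2 x hx).eq.symm
  have hH : CP ⊔ zpowers s = centralizer ({y} : Set G) := by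
    rw [hcyN]
    refine le_antisymm (sup_le hCN (zpowers_le.2 (hRN hsR))) fun g hg => ?_
    have hker : ∀ h : N, act h = 1 → (h : G) ∈ CP := by
      intro h hh
      obtain ⟨a, ha, b, hb, hbp, hab, hbz⟩ := hsplit h h.2
      refine hab ▸ mul_mem (hPP ha) (mem_centralizer_iff.2 fun x hx => ?_)
      have hz : Commute (h : G) z₀ := mul_inv_eq_iff_eq_mul.1 (show (h : G) * z₀ * (h : G)⁻¹ = z₀ from
        congrArg (fun f : MulAut Z => ((f ⟨z₀, mem_zpowers z₀⟩ : Z) : G)) hh)
      obtain ⟨i, hi⟩ := mem_zpowers_iff.1 hbz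
      exact (fpf P D.cyc hb hbp hz₀P hz₀1 (hi ▸ hz.zpow_left i) x hx).eq.symm
    have hs' : act ⟨s, hRN hsR⟩ ≠ 1 := fun h => hz₀1 (hsfix z₀ hz₀P
      (mem_centralizer_iff.1 (hker _ h) z₀ hz₀P).symm)
    by_cases hg1 : act ⟨g, hg⟩ = 1
    · exact mem_sup_left (hker _ hg1)
    have hgs : act (⟨g, hg⟩ * ⟨s, hRN hsR⟩) = 1 := by
      by_contra h
      have h3 : 3 ≤ Nat.card (MulAut Z) := by
        let f : Fin 3 → MulAut Z := ![1, act ⟨g, hg⟩, act ⟨s, hRN hsR⟩]
        have hgs' : act ⟨g, hg⟩ ≠ act ⟨s, hRN hsR⟩ := fun e => h (by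
          rw [map_mul, e, ← map_mul, show (⟨s, hRN hsR⟩ : N) * ⟨s, hRN hsR⟩ = 1 from Subtype.ext hs2, map_one])
        have hf : Function.Injective f := by
          intro i k e
          fin_cases i <;> fin_cases k <;> simp [f, hg1, hs', hgs', Ne.symm hg1, Ne.symm hs', Ne.symm hgs'] at e ⊢
        simpa using Nat.card_le_card_of_injective f hf
      omega
    have h1 : g * s ∈ CP := hker _ hgs
    have h2 := mul_mem (mem_sup_left h1 : g * s ∈ CP ⊔ zpowers s) (inv_mem (mem_sup_right (mem_zpowers s)))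
    rwa [mul_inv_cancel_right] at h2
  have hCK : CP ⊓ centralizer ({s} : Set G) = zpowers y := by
    refine le_antisymm (fun g hg => ?_) (zpowers_le.2 (mem_inf.2 ⟨hyKs,
      mem_centralizer_singleton_iff.2 (hRcomm y hyR s hsR)⟩))
    obtain ⟨a, ha, b, hb, rfl⟩ := hCPsplit g (mem_inf.1 hg).1
    have hc : Commute (a * b) s := mem_centralizer_singleton_iff.1 (mem_inf.1 hg).2
    have h2 := hc.mul_left (hRcomm b (hKR b hb) s hsR).inv_left
    rw [mul_inv_cancel_right] at h2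
    rw [hsfix a ha h2.symm, one_mul]
    by_cases h : b = 1
    · rw [h]; exact one_mem _
    · rw [hKy b hb h]; exact mem_zpowers y
  have hinv : ∀ x ∈ CP, s * x * s⁻¹ = x⁻¹ := by
    intro g hg
    obtain ⟨a, ha, b, hb, rfl⟩ := hCPsplit g hg
    rw [← conj_mul, hsP a ha, (hRcomm s hsR b (hKR b hb)).eq, mul_inv_cancel_right, mul_inv_rev,
      inv_eq_of_mul_eq_one_right (hKsq b hb), (((hKmem b).1 hb).2 _ (inv_mem ha)).eq]
  have hTI : ∀ g : G, g ∉ centralizer ({y} : Set G) → CP ⊓ CP.map (MulAut.conj g).toMonoidHom = ⊥ := by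
    intro g hg
    rw [eq_bot_iff]
    rintro x hx
    obtain ⟨hx1, ⟨x', hx', rfl⟩⟩ := mem_inf.1 hx
    rw [mem_bot]
    by_contra hne
    refine hg ?_
    obtain ⟨a, ha, b, hb, hab⟩ := hCPsplit _ hx1
    obtain ⟨a', ha', b', hb', rfl⟩ := hCPsplit x' hx'
    have hsq : ∀ a b : G, a ∈ (P : Subgroup G) → b ∈ Kc → (a * b) ^ 2 = a ^ 2 := fun a b ha hb => by
      rw [(((hKmem b).1 hb).2 a ha).symm.mul_pow, pow_two b, hKsq b hb, mul_one]
    have heq : g * (a' ^ 2) * g⁻¹ = a ^ 2 := by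
      rw [← hsq a b ha hb, ← hab, ← hsq a' b' ha' hb']
      exact conj_pow.symm
    have hodd2 : ∀ c ∈ (P : Subgroup G), c ^ 2 = 1 → c = 1 := fun c hc h2 => by
      obtain ⟨k, hk, -⟩ := pow_card_sylow P hc
      exact eq_one_of_both hk (Nat.Coprime.coprime_dvd_left (orderOf_dvd_of_pow_eq_one h2) (by norm_num))
    rw [hcyN]
    by_cases ha1 : a' = 1
    · subst ha1
      have ha0 : a = 1 := hodd2 a ha (by rw [← heq, one_pow, mul_one, mul_inv_cancel])
      subst ha0
      rw [one_mul] at hab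
      have hb'1 : b' ≠ 1 := fun e => hne (by rw [e, mul_one, map_one])
      obtain rfl : b' = y := hKy b' hb' hb'1
      have hb1 : b ≠ 1 := fun e => hne (by simp only [one_mul] at hab ⊢; rw [hab, e])
      obtain rfl : b = y := hKy b hb hb1
      refine (hCent y hy hy1 g).1 ?_
      have h : g * y * g⁻¹ = y := by
        have h' := hab
        simp only [MulEquiv.coe_toMonoidHom, MulAut.conj_apply, one_mul] at h'
        exact h'
      exact mul_inv_eq_iff_eq_mul.1 h
    · exact D.meet g (a' ^ 2) (pow_mem ha' 2) (fun e => ha1 (hodd2 a' ha' e)) (heq ▸ pow_mem ha 2)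
  have hconj : ∀ v w : G, orderOf v = 2 → orderOf w = 2 → IsConj v w := by
    have hone : ∀ v : G, orderOf v = 2 → IsConj y v := by
      intro v hv
      haveI : Fact (Nat.Prime 2) := ⟨Nat.prime_two⟩
      have hRS : IsPGroup 2 R := IsPGroup.of_card (n := 2) hR4
      obtain ⟨S, hS⟩ := hRS.exists_le_sylow
      have hSR : (S : Subgroup G) = R := by
        refine le_antisymm (fun w hw => hRC w fun a ha => ?_) hS
        haveI := D.abel (S : Subgroup G) (fun hd => by
          obtain ⟨k, hk⟩ := IsPGroup.iff_card.1 S.2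
          rw [hk] at hd
          exact absurd (Nat.prime_three.dvd_of_dvd_pow hd) (by decide))
        exact congrArg Subtype.val (mul_comm' (⟨w, hw⟩ : (S : Subgroup G)) ⟨a, hS ha⟩)
      obtain ⟨T, hT⟩ := (IsPGroup.of_card (p := 2) (n := 1) ((Nat.card_zpowers v).trans (hv.trans (pow_one 2).symm))).exists_le_sylow
      obtain ⟨g, hg⟩ := MulAction.exists_smul_eq G T S
      have hvR : g * v * g⁻¹ ∈ R := by
        rw [← hSR, ← hg, Sylow.coe_subgroup_smul]
        exact Subgroup.smul_mem_pointwise_smul _ (MulAut.conj g) _ (hT (mem_zpowers v))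
      refine IsConj.trans ?_ (isConj_iff.2 ⟨g⁻¹, by group⟩ : IsConj (g * v * g⁻¹) v)
      have hys : IsConj y s := isConj_iff.2 ⟨u, rfl⟩
      rcases hRelems _ hvR with h | h | h | h
      · rw [conj_eq_one_iff] at h
        rw [h, orderOf_one] at hv
        omega
      · rw [h]
      · rw [h]; exact hys
      · rw [h]
        refine hys.trans (isConj_iff.2 ⟨u, ?_⟩)
        have hsu : u * s * u⁻¹ ∈ R := (mem_normalizer_iff.1 huN s).1 hsR
        rcases hRelems _ hsu with h' | h' | h' | h'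
        · exact absurd (conj_eq_one_iff.1 h') hs1
        · exfalso
          rw [hs] at h'
          have hu2 : Commute (u ^ 2) y := mul_inv_eq_iff_eq_mul.1 (by
            calc u ^ 2 * y * (u ^ 2)⁻¹ = u * (u * y * u⁻¹) * u⁻¹ := by rw [pow_two]; group
              _ = y := h')
          obtain ⟨i, hi⟩ := huodd
          have : Commute ((u ^ 2) ^ (i + 1)) y := hu2.pow_left _
          rw [← pow_mul, show 2 * (i + 1) = orderOf u + 1 by omega, pow_succ, pow_orderOf_eq_one, one_mul] at this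
          exact hy1 (hufix y hyR this)
        · exact absurd (hufix s hsR (mul_inv_eq_iff_eq_mul.1 h')) hs1
        · exact h'
    exact fun v w hv hw => (hone v hv).symm.trans (hone w hw)
  obtain ⟨Q, D₀, -, hQc, -, hcard, hQD, hNQ, hX⟩ := Cfsg.Agent.S3282.result y hy2 CP hCPab
    (hcyN ▸ hCN) hyKs s hso (hcyN ▸ hRN hsR) (fun h => hz₀1 (hsfix z₀ hz₀P (mem_centralizer_iff.1 h z₀ hz₀P).symm)) hH hCK hinv hTI hconj
  have hq1 : 1 < Nat.card Q := by
    have := Nat.card_pos (α := D₀); omega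
  obtain ⟨x, hx⟩ : ∃ x : Q, x ≠ 1 := by
    haveI := Finite.one_lt_card_iff_nontrivial.1 hq1
    exact exists_ne 1
  have hxc := hQc x x.2 (fun e => hx (Subtype.ext e))
  have hconjP : ∀ w : G, orderOf w = 3 → ∃ g : G, g * w * g⁻¹ ∈ (P : Subgroup G) := fun w hw => by
    obtain ⟨T, hT⟩ := (IsPGroup.of_card (p := 3) (n := 1) ((Nat.card_zpowers w).trans (hw.trans (pow_one 3).symm))).exists_le_sylow
    obtain ⟨g, hg⟩ := MulAction.exists_smul_eq G T P
    refine ⟨g, ?_⟩
    rw [← hg, Sylow.coe_subgroup_smul]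
    exact Subgroup.smul_mem_pointwise_smul _ (MulAut.conj g) _ (hT (mem_zpowers w))
  have hQ3 : ¬ 3 ∣ Nat.card Q := fun hd => by
    obtain ⟨w, hw⟩ := exists_prime_orderOf_dvd_card' 3 hd
    have hwo : orderOf (w : G) = 3 := by rw [Subgroup.orderOf_coe, hw]
    obtain ⟨g, hg⟩ := hconjP w hwo
    have hwc := hQc w w.2 (fun e => by rw [e, orderOf_one] at hwo; omega)
    have hmem : g⁻¹ * y * g ∈ Q := by
      rw [← hwc, mem_centralizer_singleton_iff]
      have h3 := (((hKmem y).1 hy).2 _ hg).eq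
      calc g⁻¹ * y * g * w = g⁻¹ * (y * (g * w * g⁻¹)) * g := by group
        _ = w * (g⁻¹ * y * g) := by rw [h3]; group
    have h2 : 2 ∣ Nat.card Q := by
      have := Subgroup.orderOf_dvd_natCard _ hmem
      rwa [show orderOf (g⁻¹ * y * g) = 2 by
        have h := MulEquiv.orderOf_eq (MulAut.conj g⁻¹) y
        rw [MulAut.conj_apply, inv_inv, hy2] at h
        exact h] at this
    omega
  have hQcop : (Nat.card Q).Coprime 3 := (Nat.prime_three.coprime_iff_not_dvd.2 hQ3).symm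
  have hD₀Q : ∀ d ∈ D₀, (orderOf d).Coprime 3 → d = 1 := by
    intro d hd hdp
    have hdN : d ∈ normalizer (Q : Set G) := hNQ ▸ mem_sup_right hd
    have hdQ : d ∈ Q := hxc ▸ mem_centralizer_singleton_iff.2 (commute_of_normalizes D.abel hQcop hdp hdN x x.2)
    exact mem_bot.1 (hQD ▸ mem_inf.2 ⟨hdQ, hd⟩)
  by_cases hd3 : 3 ∣ Nat.card D₀
  · obtain ⟨w, hw⟩ := exists_prime_orderOf_dvd_card' 3 hd3
    have hwo : orderOf (w : G) = 3 := by rw [Subgroup.orderOf_coe, hw]
    have hw1 : (w : G) ≠ 1 := fun e => by rw [e, orderOf_one] at hwo; omega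
    obtain ⟨h1, u', hu'o, -, hu'inv, hND⟩ := hX (zpowers (w : G)) (zpowers_le.2 w.2)
      (zpowers_ne_bot.2 hw1)
    obtain ⟨g, hg⟩ := hconjP w hwo
    -- a copy of `R` normalises `⟨w⟩`
    have hmemN : ∀ a ∈ R, g⁻¹ * a * g ∈ normalizer (D₀ : Set G) := by
      intro a ha
      rw [← h1]
      have hkey : ∀ a ∈ N, ∀ v ∈ zpowers (w : G), g⁻¹ * a * g * v * (g⁻¹ * a * g)⁻¹ ∈ zpowers (w : G) := by
        intro a ha v hv
        obtain ⟨i, rfl⟩ := mem_zpowers_iff.1 hv
        rw [← conj_zpow]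
        refine zpow_mem ?_ i
        have h3 := mem_zpowers_of_order_p P D.cyc hg
          (by rw [← MulAut.conj_apply, MulEquiv.orderOf_eq, hwo])
          ((mem_normalizer_iff.1 ha _).1 hg) (by
            rw [conj_pow, conj_pow, ← hwo, pow_orderOf_eq_one, mul_one, mul_inv_cancel, mul_one, mul_inv_cancel])
        obtain ⟨m, hm⟩ := mem_zpowers_iff.1 h3
        rw [conj_zpow] at hm
        refine mem_zpowers_iff.2 ⟨m, ?_⟩
        calc (w : G) ^ m = g⁻¹ * (g * (w : G) ^ m * g⁻¹) * g := by group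
          _ = g⁻¹ * a * g * w * (g⁻¹ * a * g)⁻¹ := by rw [hm]; group
      refine mem_normalizer_iff.2 fun v => ⟨hkey a (hRN ha) v, fun h => ?_⟩
      have := hkey a⁻¹ (inv_mem (hRN ha)) _ h
      rwa [show g⁻¹ * a⁻¹ * g * (g⁻¹ * a * g * v * (g⁻¹ * a * g)⁻¹) * (g⁻¹ * a⁻¹ * g)⁻¹ = v by group] at this
    have h4 : 4 ∣ Nat.card ↥(D₀ ⊔ zpowers u') := by
      rw [← hND, ← hR4]
      have hle : R.map (MulAut.conj g⁻¹).toMonoidHom ≤ normalizer (D₀ : Set G) := by
        rintro _ ⟨a, ha, rfl⟩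
        simpa using hmemN a ha
      have := card_dvd_of_le hle
      rwa [card_map_of_injective (MulAut.conj g⁻¹).injective] at this
    have hu'n : zpowers u' ≤ normalizer (D₀ : Set G) := by
      rw [hND]; exact le_sup_right
    have h5 : 4 ∣ Nat.card (zpowers u') * Nat.card D₀ := by
      rw [sup_comm] at h4
      exact h4.trans (CfsgLib.Solvable.card_sup_dvd hu'n)
    rw [Nat.card_zpowers, hu'o] at h5
    obtain ⟨d, hd⟩ := exists_prime_orderOf_dvd_card' (G := D₀) 2 (by omega)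
    have hdo : orderOf (d : G) = 2 := by rw [Subgroup.orderOf_coe, hd]
    have := hD₀Q d d.2 (by rw [hdo]; norm_num)
    rw [this, orderOf_one] at hdo
    omega
  · have hbot : D₀ = ⊥ := (Subgroup.eq_bot_iff_forall _).2 fun d hd => hD₀Q d hd
      (((Nat.prime_three.coprime_iff_not_dvd.2 hd3).symm).coprime_dvd_left (Subgroup.orderOf_dvd_natCard _ hd))
    rw [hbot, card_bot] at hcard
    omega

end CfsgLib.CyclicAbelian
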