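import Cfsg.Agent.FGSB.CyclicAbelian.Basic
import Cfsg.Agent.CTGroup.Structure
import Mathlib.GroupTheory.Perm.Cycle.Type

/-!
# The configuration in which `P` is self-centralising
-/

set_option autoImplicit false
set_option linter.unusedSectionVars false
set_option linter.style.haveILetI false

namespace CfsgLib.CyclicAbelian

open Subgroup

universe u

/-- `PSL₂` over a field of characteristic two has even order. -/
theorem even_psl {F : Type} [Field F] [Fintype F] {f : ℕ} (hf : Fintype.card F = 2 ^ f) :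
    2 ∣ Nat.card (Matrix.ProjectiveSpecialLinearGroup (Fin 2) F) := by
  have h2 : (2 : F) = 0 := by
    have h : (Fintype.card F : F) = 0 := Nat.cast_card_eq_zero F
    rw [hf, Nat.cast_pow, Nat.cast_ofNat] at h
    exact eq_zero_of_pow_eq_zero h
  have hneg : (-1 : F) = 1 := by linear_combination -h2
  let w : Matrix.SpecialLinearGroup (Fin 2) F := ⟨!![0, 1; 1, 0], by simp [Matrix.det_fin_two, hneg]⟩
  let e : Matrix.SpecialLinearGroup (Fin 2) F := ⟨!![1, 1; 0, 1], by simp [Matrix.det_fin_two]⟩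
  have hw2 : w * w = 1 := by
    refine Subtype.ext ?_
    show (!![0, 1; 1, 0] : Matrix (Fin 2) (Fin 2) F) * !![0, 1; 1, 0] = 1
    ext i j
    fin_cases i <;> fin_cases j <;> simp [Matrix.mul_apply]
  let q : Matrix.ProjectiveSpecialLinearGroup (Fin 2) F :=
    QuotientGroup.mk' (Subgroup.center (Matrix.SpecialLinearGroup (Fin 2) F)) w
  have hq1 : q ≠ 1 := fun h => by
    have h1 := Subgroup.mem_center_iff.1 ((QuotientGroup.eq_one_iff w).1 h) e
    have h2' : (!![1, 1; 0, 1] : Matrix (Fin 2) (Fin 2) F) * !![0, 1; 1, 0] =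
        !![0, 1; 1, 0] * !![1, 1; 0, 1] := congrArg Subtype.val h1
    have h3 := congrFun (congrFun h2' 0) 0
    simp [Matrix.mul_apply] at h3
  have hq2 : q ^ 2 = 1 := by
    show QuotientGroup.mk' _ w ^ 2 = 1
    rw [← map_pow, pow_two, hw2, map_one]
  have ho : orderOf q = 2 := orderOf_eq_prime hq2 hq1
  exact (dvd_of_eq ho.symm).trans (_root_.orderOf_dvd_natCard q)

variable {G : Type u} [Group G] [Finite G] {p : ℕ} [hp : Fact p.Prime]

theorem selfCentralizing_false {P : Sylow p G} (D : Data p P)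
    (hD : ∀ y : G, (orderOf y).Coprime p → (∀ x ∈ (P : Subgroup G), Commute y x) → y = 1) : False := by
  classical
  haveI := D.simple
  obtain ⟨hp2, -⟩ := And.intro D.odd trivial
  -- facts at `P`
  have hCP : ∀ x ∈ (P : Subgroup G), x ≠ 1 → ∀ g : G, Commute g x → g ∈ (P : Subgroup G) := by
    intro x hx hx1 g hg
    have hN := D.meet_eq hx hx1 hg
    obtain ⟨a, b, hab, ha, hb, hap, hbp⟩ := CfsgLib.FGSBSmall.exists_prime_split hp.out g
    obtain ⟨i, hi⟩ := mem_zpowers_iff.1 hb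
    have hb1 : b = 1 := hD b hbp (fpf P D.cyc (zpowers_le.2 hN hb) hbp hx hx1 (hi ▸ hg.zpow_left i))
    rw [← hab, hb1, mul_one]
    exact mem_of_normalizes P hap (zpowers_le.2 hN ha)
  -- all Sylow subgroups
  let cj : G → G → G := fun g x => g * x * g⁻¹
  have hconj : ∀ Q : Sylow p G, ∃ g : G, ∀ x, x ∈ (Q : Subgroup G) ↔ g * x * g⁻¹ ∈ (P : Subgroup G) := by
    intro Q
    obtain ⟨g, hg⟩ := MulAction.exists_smul_eq G Q P
    refine ⟨g, fun x => ?_⟩
    rw [← hg]
    show x ∈ (Q : Subgroup G) ↔ g * x * g⁻¹ ∈ ((g • Q : Sylow p G) : Subgroup G)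
    rw [Sylow.coe_subgroup_smul]
    exact (Subgroup.smul_mem_pointwise_smul_iff (a := MulAut.conj g)).symm
  have hCQ : ∀ (Q : Sylow p G), ∀ x ∈ (Q : Subgroup G), x ≠ 1 → ∀ h : G, Commute h x → h ∈ (Q : Subgroup G) := by
    intro Q x hx hx1 h hh
    obtain ⟨g, hg⟩ := hconj Q
    refine (hg h).2 (hCP _ ((hg x).1 hx) (fun e => hx1 (conj_eq_one_iff.1 e)) _ ?_)
    show g * h * g⁻¹ * (g * x * g⁻¹) = g * x * g⁻¹ * (g * h * g⁻¹)
    rw [conj_mul, conj_mul, hh.eq]
  have hpelt : ∀ x : G, (∃ k, x ^ p ^ k = 1) → ∃ Q : Sylow p G, x ∈ (Q : Subgroup G) := by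
    rintro x ⟨k, hk⟩
    have : IsPGroup p (zpowers x) := fun y => ⟨k, by
      obtain ⟨i, hi⟩ := mem_zpowers_iff.1 y.2
      refine Subtype.ext ?_
      show (y : G) ^ p ^ k = 1
      rw [← hi, ← zpow_natCast, ← zpow_mul, mul_comm, zpow_mul, zpow_natCast, hk, one_zpow]⟩
    obtain ⟨Q, hQ⟩ := this.exists_le_sylow
    exact ⟨Q, hQ (mem_zpowers x)⟩
  have hQcomm : ∀ (Q : Sylow p G) (x y : G), x ∈ (Q : Subgroup G) → y ∈ (Q : Subgroup G) → Commute x y := by
    intro Q x y hx hy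
    obtain ⟨g, hg⟩ := hconj Q
    have h := (D.comm_mem ((hg x).1 hx) ((hg y).1 hy)).eq
    rw [conj_mul, conj_mul] at h
    exact mul_left_cancel (mul_right_cancel h)
  -- centralisers of non-trivial elements of order prime to `p`
  have hpp : ∀ y : G, (orderOf y).Coprime p → y ≠ 1 → ∀ x, Commute y x → orderOf x ≠ p := by
    intro y hy hy1 x hxy hxo
    obtain ⟨Q, hQ⟩ := hpelt x ⟨1, by rw [pow_one, ← hxo, pow_orderOf_eq_one]⟩
    have hx1 : x ≠ 1 := fun e => hp.out.one_lt.ne (by rw [← hxo, e, orderOf_one])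
    obtain ⟨k, hk, -⟩ := pow_card_sylow Q (hCQ Q x hQ hx1 y hxy)
    exact hy1 (eq_one_of_both hk hy)
  have hCy : ∀ y : G, (orderOf y).Coprime p → y ≠ 1 → ∀ a b, Commute a y → Commute b y → Commute a b := by
    intro y hy hy1 a b ha hb
    have hcop : (Nat.card (centralizer ({y} : Set G))).Coprime p := coprime_of_no_p fun x hx =>
      hpp y hy hy1 x (mem_centralizer_singleton_iff.1 hx).symm
    haveI := D.abel _ (hp.out.coprime_iff_not_dvd.1 hcop.symm)
    exact congrArg Subtype.val (mul_comm' (⟨a, mem_centralizer_singleton_iff.2 ha⟩ :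
      centralizer ({y} : Set G)) ⟨b, mem_centralizer_singleton_iff.2 hb⟩)
  have hCA : ∀ x : G, x ≠ 1 → ∀ a b, Commute a x → Commute b x → Commute a b := by
    intro x hx1 a b ha hb
    obtain ⟨c, d, hcd, hc, hd, ⟨k, hk⟩, hdp⟩ := CfsgLib.FGSBSmall.exists_prime_split hp.out x
    by_cases hc1 : c = 1
    · rw [hc1, one_mul] at hcd
      subst hcd
      exact hCy d hdp hx1 a b ha hb
    obtain ⟨Q, hQ⟩ := hpelt c ⟨k, by rw [← hk, pow_orderOf_eq_one]⟩
    obtain ⟨i, hi⟩ := mem_zpowers_iff.1 hc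
    exact hQcomm Q a b (hCQ Q c hQ hc1 a (hi ▸ ha.zpow_right i)) (hCQ Q c hQ hc1 b (hi ▸ hb.zpow_right i))
  -- even order
  obtain ⟨F, iF, iF', f, -, hf, ⟨e⟩⟩ := CfsgLib.CTGroup.psl_two_even_of_transitive (G := G) D.ncomm
    fun a b c _ hb _ hab hbc => hCA b hb a c hab hbc.symm
  have h2G : 2 ∣ Nat.card G := by rw [Nat.card_congr e.toEquiv]; exact even_psl hf
  -- an involution not commuting with all involutions
  obtain ⟨s, hs, t₀, ht₀, hst₀⟩ : ∃ s : G, orderOf s = 2 ∧ ∃ t₀ : G, orderOf t₀ = 2 ∧ ¬ Commute s t₀ := by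
    by_contra hcon
    push Not at hcon
    obtain ⟨s, hs⟩ := exists_prime_orderOf_dvd_card' (G := G) 2 h2G
    set K := Subgroup.closure {x : G | orderOf x = 2} with hK
    haveI : K.Normal := ⟨fun x hx g => by
      induction hx using Subgroup.closure_induction with
      | mem x hx => exact Subgroup.subset_closure (by
          show orderOf (g * x * g⁻¹) = 2
          rw [← MulAut.conj_apply, MulEquiv.orderOf_eq]; exact hx)
      | one => rw [mul_one, mul_inv_cancel]; exact one_mem _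
      | mul a b _ _ ha hb => rw [← conj_mul]; exact mul_mem ha hb
      | inv a _ ha => rw [← conj_inv]; exact inv_mem ha⟩
    haveI : IsMulCommutative K := Subgroup.isMulCommutative_closure fun a ha b hb => (hcon a ha b hb).eq
    rcases IsSimpleGroup.eq_bot_or_eq_top_of_normal K inferInstance with h | h
    · have : s ∈ K := Subgroup.subset_closure hs
      rw [h, mem_bot] at this
      rw [this, orderOf_one] at hs
      omega
    · exact D.ncomm ⟨⟨fun a b => congrArg Subtype.val (mul_comm' (⟨a, h ▸ mem_top a⟩ : K) ⟨b, h ▸ mem_top b⟩)⟩⟩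
  have hs2 : s * s = 1 := by rw [← pow_two, ← hs, pow_orderOf_eq_one]
  have hs1 : s ≠ 1 := fun e => by rw [e, orderOf_one] at hs; omega
  have hcop2 : Nat.Coprime 2 p := (Nat.prime_two.coprime_iff_not_dvd.2 fun h =>
    hp2 ((Nat.prime_dvd_prime_iff_eq Nat.prime_two hp.out).1 h).symm)
  have hscop : (orderOf s).Coprime p := by rw [hs]; exact hcop2
  have hinvcop : ∀ t : G, orderOf t = 2 → (orderOf t).Coprime p := fun t ht => by rw [ht]; exact hcop2
  -- involutions in total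
  have hfree : ∀ z : G, orderOf z = p → ∀ t : G, orderOf t = 2 → ¬ Commute t z := fun z hz t ht hc =>
    hpp t (hinvcop t ht) (fun e => by rw [e, orderOf_one] at ht; omega) z hc hz
  have hmodp : ∀ (z : G), orderOf z = p → ∀ S : Set G, (∀ t ∈ S, orderOf t = 2) →
      (∀ t ∈ S, z * t * z⁻¹ ∈ S) → p ∣ Nat.card S := by
    intro z hz S hS2 hSz
    let σ : Equiv.Perm S := Equiv.ofBijective (fun t => ⟨z * t * z⁻¹, hSz t t.2⟩)
      (Finite.injective_iff_bijective.1 fun t t' e => Subtype.ext (mul_left_cancel (mul_right_cancel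
        (congrArg Subtype.val e))))
    have hit : ∀ (j : ℕ) (t : S), (((σ ^ j) t : S) : G) = z ^ j * t * (z ^ j)⁻¹ := by
      intro j
      induction j with
      | zero => simp
      | succ j ih =>
        intro t
        rw [pow_succ', Equiv.Perm.mul_apply]
        show z * _ * z⁻¹ = _
        rw [ih, pow_succ']
        group
    have hσ : σ ^ p = 1 := Equiv.ext fun t => Subtype.ext (by
      rw [hit, ← hz, pow_orderOf_eq_one, one_mul, inv_one, mul_one, Equiv.Perm.one_apply])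
    have hG : IsPGroup p (zpowers σ) := fun y => ⟨1, Subtype.ext (by
      obtain ⟨i, hi⟩ := mem_zpowers_iff.1 y.2
      show (y : Equiv.Perm S) ^ p ^ 1 = 1
      rw [pow_one, ← hi, ← zpow_natCast, ← zpow_mul, mul_comm, zpow_mul, zpow_natCast, hσ, one_zpow])⟩
    have h := hG.card_modEq_card_fixedPoints S
    have h0 : IsEmpty (MulAction.fixedPoints (zpowers σ) S) := ⟨fun t => by
      have h1 : σ t.1 = t.1 := t.2 ⟨σ, mem_zpowers σ⟩
      have h2 : z * (t.1 : G) * z⁻¹ = (t.1 : G) := congrArg Subtype.val h1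
      exact hfree z hz _ (hS2 _ t.1.2) (mul_inv_eq_iff_eq_mul.1 h2).symm⟩
    rw [Nat.card_of_isEmpty (α := MulAction.fixedPoints (zpowers σ) S)] at h
    exact (Nat.modEq_zero_iff_dvd).1 h
  set I : Set G := {t | orderOf t = 2}
  set I₁ : Set G := {t | orderOf t = 2 ∧ Commute s t}
  set I₂ : Set G := {t | orderOf t = 2 ∧ ¬ Commute s t}
  obtain ⟨x₀, hx₀⟩ : ∃ x : G, orderOf x = p := by
    haveI : Nontrivial (P : Subgroup G) := (Subgroup.nontrivial_iff_ne_bot _).2 D.ne_bot
    obtain ⟨x, hx⟩ := exists_ne (1 : (P : Subgroup G))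
    obtain ⟨y, -, hy⟩ := exists_order_p P x.2 (fun e => hx (Subtype.ext e))
    exact ⟨y, hy⟩
  have hI : p ∣ Nat.card I := hmodp x₀ hx₀ I (fun t ht => ht) fun t ht => by
    show orderOf (x₀ * t * x₀⁻¹) = 2
    rw [← MulAut.conj_apply, MulEquiv.orderOf_eq]; exact ht
  -- the involutions commuting with `s`
  haveI : Fact (Nat.Prime 2) := ⟨Nat.prime_two⟩
  obtain ⟨S, hS⟩ := (IsPGroup.of_card (p := 2) (n := 1) ((Nat.card_zpowers s).trans (hs.trans (pow_one 2).symm))).exists_le_sylow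
  have hsS : s ∈ (S : Subgroup G) := hS (mem_zpowers s)
  have hScop : (Nat.card (S : Subgroup G)).Coprime p := by
    obtain ⟨k, hk⟩ := IsPGroup.iff_card.1 S.2
    rw [hk]; exact hcop2.pow_left k
  have hI₁S : ∀ t : G, t ∈ I₁ ↔ t ∈ (S : Subgroup G) ∧ orderOf t = 2 := by
    intro t
    refine ⟨fun ⟨ht, hc⟩ => ⟨?_, ht⟩, fun ⟨ht, ht2⟩ => ⟨ht2, ?_⟩⟩
    · refine mem_of_normalizes (p := 2) S ⟨1, by rw [ht, pow_one]⟩ (centralizer_le_normalizer _
        (mem_centralizer_iff.2 fun y hy => ?_))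
      haveI := D.abel _ (hp.out.coprime_iff_not_dvd.1 hScop.symm)
      exact (hCA s hs1 y t (congrArg Subtype.val (mul_comm' (⟨y, hy⟩ : (S : Subgroup G)) ⟨s, hsS⟩)) hc.symm).eq
    · haveI := D.abel _ (hp.out.coprime_iff_not_dvd.1 hScop.symm)
      exact congrArg Subtype.val (mul_comm' (⟨s, hsS⟩ : (S : Subgroup G)) ⟨t, ht⟩)
  have hI₁ : p ∣ Nat.card I₁ := by
    have h1 : 1 < Nat.card (S : Subgroup G) := by
      haveI : Nontrivial (S : Subgroup G) := ⟨⟨⟨s, hsS⟩, 1, fun e => hs1 (congrArg Subtype.val e)⟩⟩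
      exact Finite.one_lt_card
    have h2 : Nat.card (S : Subgroup G) < Nat.card G := by
      refine lt_of_le_of_ne (Subgroup.card_le_card_group _) fun e => ?_
      have : p ∣ Nat.card (S : Subgroup G) := e ▸ hx₀ ▸ orderOf_dvd_natCard x₀
      exact hp.out.coprime_iff_not_dvd.1 hScop.symm this
    obtain ⟨g, hg, hgC⟩ := SetLike.not_le_iff_exists.1 (CfsgLib.SmallSimple.not_le_centralizer S h1 h2)
    obtain ⟨a, b, hab, ha, hb, ⟨k, hk⟩, hbp⟩ := CfsgLib.FGSBSmall.exists_prime_split hp.out g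
    have hbC := commute_of_normalizes D.abel hScop hbp (zpowers_le.2 hg hb)
    have ha1 : a ≠ 1 := fun e => hgC (mem_centralizer_iff.2 fun y hy => by
      rw [← hab, e, one_mul]; exact (hbC y hy).eq.symm)
    obtain ⟨z, hz, hzo⟩ : ∃ z ∈ zpowers a, orderOf z = p := by
      obtain ⟨Q, hQ⟩ := hpelt a ⟨k, by rw [← hk, pow_orderOf_eq_one]⟩
      exact exists_order_p Q hQ ha1
    have hzN : z ∈ normalizer ((S : Subgroup G) : Set G) :=
      (zpowers_le.2 ((zpowers_le.2 hg) ha)) hz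
    refine hmodp z hzo I₁ (fun t ht => ht.1) fun t ht => (hI₁S _).2 ⟨?_, ?_⟩
    · exact (mem_normalizer_iff.1 hzN t).1 ((hI₁S t).1 ht).1
    · rw [← MulAut.conj_apply, MulEquiv.orderOf_eq]; exact ht.1
  have hI₂ : p ∣ Nat.card I₂ := by
    have h : Nat.card I = Nat.card I₁ + Nat.card I₂ := by
      rw [Nat.card_coe_set_eq, Nat.card_coe_set_eq, Nat.card_coe_set_eq, ← Set.ncard_union_eq]
      · congr 1
        ext t
        simp only [I, I₁, I₂, Set.mem_setOf_eq, Set.mem_union]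
        tauto
      · exact Set.disjoint_left.2 fun t h1 h2 => h2.2 h1.2
    exact (Nat.dvd_add_right hI₁).1 (h ▸ hI)
  -- products with the other involutions
  set X : Set G := {x | x ≠ 1 ∧ (∃ k, x ^ p ^ k = 1) ∧ s * x * s⁻¹ = x⁻¹}
  have hsi : s⁻¹ = s := inv_eq_of_mul_eq_one_right hs2
  have hX : Nat.card X = Nat.card I₂ := by
    have hmk : ∀ t ∈ I₂, s * t ∈ X := by
      rintro t ⟨ht, hnc⟩
      have ht2 : t * t = 1 := by rw [← pow_two, ← ht, pow_orderOf_eq_one]
      have hti : t⁻¹ = t := inv_eq_of_mul_eq_one_right ht2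
      have hinv : s * (s * t) * s⁻¹ = (s * t)⁻¹ := by
        rw [mul_inv_rev, hsi, hti, ← mul_assoc s s t, hs2, one_mul]
      have hne : s * t ≠ 1 := fun e => hnc (by
        rw [show t = s from (eq_inv_of_mul_eq_one_right e).trans hsi])
      refine ⟨hne, ?_, hinv⟩
      by_contra hnp
      have hcopst : (orderOf (s * t)).Coprime p := by
        refine (hp.out.coprime_iff_not_dvd.2 fun hd => hnp ?_).symm
        obtain ⟨x, hx⟩ := exists_prime_orderOf_dvd_card' (G := zpowers (s * t)) p (by rwa [Nat.card_zpowers])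
        have hxo : orderOf (x : G) = p := by rw [Subgroup.orderOf_coe, hx]
        obtain ⟨Q, hQ⟩ := hpelt x ⟨1, by rw [pow_one, ← hxo, pow_orderOf_eq_one]⟩
        obtain ⟨i, hi⟩ := mem_zpowers_iff.1 x.2
        have hm := hCQ Q x hQ (fun e => hp.out.one_lt.ne (by rw [← hxo, e, orderOf_one])) (s * t)
          (hi ▸ Commute.self_zpow (s * t) i)
        exact (pow_card_sylow Q hm).imp fun k hk => hk.1
      have hsn : s ∈ normalizer (zpowers (s * t) : Set G) := mem_normalizer_iff.2 fun y => by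
        have hflip : ∀ y ∈ zpowers (s * t), s * y * s⁻¹ ∈ zpowers (s * t) := fun y hy => by
          obtain ⟨i, rfl⟩ := mem_zpowers_iff.1 hy
          rw [← conj_zpow, hinv]
          exact zpow_mem (inv_mem (mem_zpowers _)) i
        refine ⟨hflip y, fun hy => ?_⟩
        have h1 := hflip _ hy
        rwa [hsi, show s * (s * y * s) * s = s * s * y * (s * s) by group, hs2, one_mul, mul_one] at h1
      have h := commute_of_normalizes D.abel (zpowers_coprime hcopst) hscop hsn (s * t) (mem_zpowers _)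
      exact hnc (mul_left_cancel (h.eq.trans (mul_assoc _ _ _)))
    have hback : ∀ x ∈ X, s * x ∈ I₂ := by
      rintro x ⟨hx1, ⟨k, hk⟩, hxi⟩
      have hxs : s * x = x⁻¹ * s := mul_inv_eq_iff_eq_mul.1 hxi
      have hnc : ¬ Commute s x := fun h => hx1 (eq_one_of_both hk (by
        have h2 : x⁻¹ = x := by rw [← hxi, h.eq, mul_inv_cancel_right]
        have h3 : x ^ 2 = 1 := by rw [pow_two]; nth_rewrite 1 [← h2]; exact inv_mul_cancel x
        exact hcop2.coprime_dvd_left (orderOf_dvd_of_pow_eq_one h3)))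
      refine ⟨orderOf_eq_prime ?_ fun e => hnc ?_, fun h => hnc ?_⟩
      · rw [pow_two]
        nth_rewrite 1 [hxs]
        rw [mul_assoc, ← mul_assoc s, hs2, one_mul, inv_mul_cancel]
      · rw [(eq_inv_of_mul_eq_one_right e).trans hsi]
      · have := h.eq
        rw [mul_assoc s x s] at this
        exact mul_left_cancel this
    exact Nat.card_congr {
      toFun := fun x => ⟨s * x, hback x x.2⟩
      invFun := fun t => ⟨s * t, hmk t t.2⟩
      left_inv := fun x => Subtype.ext (show s * (s * (x : G)) = x by rw [← mul_assoc, hs2, one_mul])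
      right_inv := fun t => Subtype.ext (show s * (s * (t : G)) = t by rw [← mul_assoc, hs2, one_mul]) }
  -- fixed Sylow subgroups
  set Fs := {Q : Sylow p G // s ∈ normalizer ((Q : Subgroup G) : Set G)}
  have hinvQ : ∀ Q : Fs, ∀ x ∈ (Q.1 : Subgroup G), s * x * s⁻¹ = x⁻¹ := by
    intro Q x hx
    have hfix : ∀ y ∈ (Q.1 : Subgroup G), Commute s y → y = 1 := fun y hy hc => by
      by_contra hy1
      obtain ⟨k, hk, -⟩ := pow_card_sylow Q.1 (hCQ Q.1 y hy hy1 s hc)
      exact hs1 (eq_one_of_both hk hscop)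
    have hx' : s * x * s⁻¹ ∈ (Q.1 : Subgroup G) := (mem_normalizer_iff.1 Q.2 x).1 hx
    have h1 := hfix (x * (s * x * s⁻¹)) (mul_mem hx hx') (by
      show s * (x * (s * x * s⁻¹)) = x * (s * x * s⁻¹) * s
      calc s * (x * (s * x * s⁻¹)) = s * x * s⁻¹ * (s * s * x) * s⁻¹ := by group
        _ = s * x * s⁻¹ * x * s := by rw [hs2, one_mul, hsi]
        _ = x * (s * x * s⁻¹) * s := by rw [(hQcomm Q.1 _ _ hx' hx).eq])
    exact eq_inv_of_mul_eq_one_right h1
  have huniq : ∀ (Q Q' : Sylow p G) (x : G), x ≠ 1 → x ∈ (Q : Subgroup G) → x ∈ (Q' : Subgroup G) → Q = Q' :=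
    fun Q Q' x hx h h' => Sylow.ext (le_antisymm (fun y hy => hCQ Q' x h' hx y (hQcomm Q y x hy h))
      (fun y hy => hCQ Q x h hx y (hQcomm Q' y x hy h')))
  have hsigma : Nat.card X = Nat.card Fs * (Nat.card (P : Subgroup G) - 1) := by
    have e1 : X ≃ (Q : Fs) × {x : (Q.1 : Subgroup G) // x ≠ 1} := by
      refine (Equiv.ofBijective (fun w : (Q : Fs) × {x : (Q.1 : Subgroup G) // x ≠ 1} =>
        (⟨((w.2.1 : G)), fun e => w.2.2 (Subtype.ext e),
          (pow_card_sylow w.1.1 w.2.1.2).imp fun k hk => hk.1, hinvQ w.1 _ w.2.1.2⟩ : X)) ⟨?_, ?_⟩).symm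
      · rintro ⟨Q, ⟨⟨x, hx⟩, hx1⟩⟩ ⟨Q', ⟨⟨x', hx'⟩, hx1'⟩⟩ e
        obtain rfl : x = x' := congrArg Subtype.val e
        obtain rfl : Q = Q' := Subtype.ext (huniq Q.1 Q'.1 x (fun e => hx1 (Subtype.ext e)) hx hx')
        rfl
      · rintro ⟨x, hx1, hk, hxi⟩
        obtain ⟨Q, hQ⟩ := hpelt x hk
        have hmem : ∀ y, y ∈ (Q : Subgroup G) → s * y * s⁻¹ ∈ (Q : Subgroup G) := fun y hy => by
          refine hCQ Q x hQ hx1 _ ?_
          have h := (hQcomm Q y x⁻¹ hy (inv_mem hQ)).eq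
          refine Commute.inv_right_iff.1 ?_
          rw [← hxi]
          show s * y * s⁻¹ * (s * x * s⁻¹) = s * x * s⁻¹ * (s * y * s⁻¹)
          rw [conj_mul, conj_mul, (hQcomm Q y x hy hQ).eq]
        refine ⟨⟨⟨Q, mem_normalizer_iff.2 fun y => ⟨hmem y, fun hy => ?_⟩⟩, ⟨⟨x, hQ⟩, fun e => hx1 (congrArg Subtype.val e)⟩⟩, rfl⟩
        have h1 := hmem _ hy
        rwa [hsi, show s * (s * y * s) * s = s * s * y * (s * s) by group, hs2, one_mul, mul_one] at h1
    haveI := Fintype.ofFinite Fs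
    rw [Nat.card_congr e1, Nat.card_sigma, Nat.card_eq_fintype_card (α := Fs)]
    have : ∀ Q : Fs, Nat.card {x : (Q.1 : Subgroup G) // x ≠ 1} = Nat.card (P : Subgroup G) - 1 := fun Q => by
      rw [Nat.card_congr (Sylow.equiv P Q.1).toEquiv]
      haveI := Fintype.ofFinite (Q.1 : Subgroup G)
      rw [Nat.card_eq_fintype_card, Fintype.card_subtype_compl, Fintype.card_subtype_eq, Nat.card_eq_fintype_card]
    rw [Finset.sum_congr rfl (fun Q _ => this Q), Finset.sum_const, Finset.card_univ, smul_eq_mul]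
  have hP1 : ¬ p ∣ Nat.card (P : Subgroup G) - 1 := fun hd => by
    obtain ⟨k, hk⟩ := IsPGroup.iff_card.1 P.2
    have hk0 : k ≠ 0 := fun e => D.ne_bot (eq_bot_of_card_eq _ (by rw [hk, e, pow_zero]))
    have h1 : p ∣ Nat.card (P : Subgroup G) := hk ▸ dvd_pow_self p hk0
    have h2 := Nat.dvd_sub h1 hd
    rw [Nat.sub_sub_self Nat.card_pos] at h2
    exact hp.out.one_lt.ne' (Nat.dvd_one.1 h2)
  have hFs : p ∣ Nat.card Fs := by
    rw [← hX, hsigma] at hI₂
    exact (hp.out.dvd_mul.1 hI₂).resolve_right hP1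
  -- the centraliser of `s` is transitive on them
  have hX0 : 0 < Nat.card X := by
    haveI : Nonempty I₂ := ⟨⟨t₀, ht₀, hst₀⟩⟩
    rw [hX]; exact Nat.card_pos
  have hFs0 : Nonempty Fs := by
    rw [hsigma] at hX0
    exact (Nat.card_pos_iff.1 (Nat.pos_of_mul_pos_right hX0)).1
  obtain ⟨Q₁⟩ := hFs0
  set C := centralizer ({s} : Set G)
  have hsmul : ∀ (g : G) (Q : Sylow p G) (x : G), x ∈ ((g • Q : Sylow p G) : Subgroup G) ↔
      g⁻¹ * x * g ∈ (Q : Subgroup G) := by
    intro g Q x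
    rw [Sylow.coe_subgroup_smul, Subgroup.mem_pointwise_smul_iff_inv_smul_mem]
    simp [MulAut.smul_def]
  have hmove : ∀ (g : G) (Q : Sylow p G) (w : G), w ∈ normalizer ((Q : Subgroup G) : Set G) →
      g * w * g⁻¹ ∈ normalizer (((g • Q : Sylow p G) : Subgroup G) : Set G) := fun g Q w hw =>
    mem_normalizer_iff.2 fun x => by
      rw [hsmul, hsmul, mem_normalizer_iff.1 hw (g⁻¹ * x * g)]
      rw [show g⁻¹ * (g * w * g⁻¹ * x * (g * w * g⁻¹)⁻¹) * g = w * (g⁻¹ * x * g) * w⁻¹ by group]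
  have horb : MulAction.orbit C Q₁.1 = {Q : Sylow p G | s ∈ normalizer ((Q : Subgroup G) : Set G)} := by
    ext Q
    refine ⟨?_, fun hQ => ?_⟩
    · rintro ⟨c, rfl⟩
      have := hmove c.1 Q₁.1 s Q₁.2
      rwa [(mem_centralizer_singleton_iff.1 c.2), mul_inv_cancel_right] at this
    · obtain ⟨g, hg⟩ := MulAction.exists_smul_eq G Q₁.1 Q
      set s' := g * s * g⁻¹
      have hs'N : s' ∈ normalizer ((Q : Subgroup G) : Set G) := hg ▸ hmove g Q₁.1 s Q₁.2
      have hinv' : ∀ y ∈ (Q : Subgroup G), s' * y * s'⁻¹ = y⁻¹ := fun y hy => by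
        rw [← hg, hsmul] at hy
        have h1 := hinvQ Q₁ _ hy
        calc s' * y * s'⁻¹ = g * (s * (g⁻¹ * y * g) * s⁻¹) * g⁻¹ := by simp only [s']; group
          _ = y⁻¹ := by rw [h1]; group
      obtain ⟨y₀, hy₀⟩ : ∃ y : G, y ∈ (Q : Subgroup G) ∧ y ≠ 1 := by
        haveI : Nontrivial (P : Subgroup G) := (Subgroup.nontrivial_iff_ne_bot _).2 D.ne_bot
        obtain ⟨z, hz⟩ := exists_ne (1 : (P : Subgroup G))
        exact ⟨_, ((Sylow.equiv P Q) z).2, fun e => hz ((Sylow.equiv P Q).injective (by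
          rw [map_one]; exact Subtype.ext e))⟩
      have hmem : s * s' ∈ (Q : Subgroup G) := by
        refine hCQ Q y₀ hy₀.1 hy₀.2 _ ?_
        show s * s' * y₀ = y₀ * (s * s')
        have h1 := hinv' y₀ hy₀.1
        have h2 := hinvQ ⟨Q, hQ⟩ y₀⁻¹ (inv_mem hy₀.1)
        rw [inv_inv] at h2
        rw [← h1] at h2
        calc s * s' * y₀ = (s * (s' * y₀ * s'⁻¹) * s⁻¹) * (s * s') := by group
          _ = y₀ * (s * s') := by rw [h2]
      obtain ⟨k, hk, hkd⟩ := pow_card_sylow Q hmem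
      have hodd : Odd (p ^ k) := (hp.out.odd_of_ne_two hp2).pow
      obtain ⟨j, hj⟩ := hodd
      set c := (s * s') ^ (j + 1) with hc
      have hc2 : c * c = s * s' := by
        rw [hc, ← pow_add, show j + 1 + (j + 1) = 1 + p ^ k by omega, pow_add, pow_one, hk, mul_one]
      have hcQ : c ∈ (Q : Subgroup G) := pow_mem hmem _
      have hcs : s * c * s⁻¹ = c⁻¹ := hinvQ ⟨Q, hQ⟩ c hcQ
      refine ⟨⟨c * g, mem_centralizer_singleton_iff.2 ?_⟩, ?_⟩
      · have hes' : s' = s * (c * c) := by rw [hc2, ← mul_assoc, hs2, one_mul]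
        have h3 : c * s' * c⁻¹ = s := by
          rw [hes', show c * (s * (c * c)) * c⁻¹ = c * (s * c * s⁻¹) * s by group, hcs, mul_inv_cancel, one_mul]
        calc c * g * s = c * s' * c⁻¹ * (c * g) := by simp only [s']; group
          _ = s * (c * g) := by rw [h3]
      · show (c * g) • Q₁.1 = Q
        rw [mul_smul, hg]
        exact Sylow.smul_eq_iff_mem_normalizer.2 (Subgroup.le_normalizer hcQ)
  have hdiv : Nat.card Fs ∣ Nat.card C := by
    have h1 := MulAction.index_stabilizer C Q₁.1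
    rw [horb, ← Nat.card_coe_set_eq] at h1
    exact h1 ▸ Subgroup.index_dvd_card _
  have hCcop : (Nat.card C).Coprime p := coprime_of_no_p fun x hx =>
    hpp s hscop hs1 x (mem_centralizer_singleton_iff.1 hx).symm
  exact hp.out.coprime_iff_not_dvd.1 hCcop.symm (hFs.trans hdiv)

end CfsgLib.CyclicAbelian
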