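import Cfsg.Agent.FGSB.CyclicAbelian.Involutions
import Cfsg.Agent.FGSB.CyclicAbelian.Central

/-!
# Cyclic Sylow subgroup and abelian subgroups of order prime to `p`
-/

set_option autoImplicit false
set_option linter.unusedSectionVars false
set_option linter.style.haveILetI false

namespace CfsgLib.CyclicAbelian

open Subgroup

universe u

variable {p : ℕ} [hp : Fact p.Prime]

theorem card_preimage {G : Type u} [Group G] [Finite G] (L : Subgroup G) [L.Normal] (H : Subgroup (G ⧸ L)) :
    Nat.card (H.comap (QuotientGroup.mk' L)) = Nat.card H * Nat.card L ∧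
      (H.comap (QuotientGroup.mk' L)).index = H.index := by
  have hi := index_comap_of_surjective H (QuotientGroup.mk'_surjective L)
  refine ⟨Nat.eq_of_mul_eq_mul_right (Nat.pos_of_ne_zero H.index_ne_zero_of_finite) ?_, hi⟩
  conv_lhs => rw [← hi, card_mul_index, Subgroup.card_eq_card_quotient_mul_card_subgroup L, ← H.card_mul_index]
  ring

theorem abel_quotient {G : Type u} [Group G] [Finite G] (L : Subgroup G) [L.Normal] (hL : (Nat.card L).Coprime p)
    (hab : ∀ H : Subgroup G, ¬ p ∣ Nat.card H → IsMulCommutative H) :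
    ∀ H : Subgroup (G ⧸ L), ¬ p ∣ Nat.card H → IsMulCommutative H := by
  intro H hH
  haveI := hab (H.comap (QuotientGroup.mk' L)) (by
    rw [(card_preimage L H).1]
    exact fun hd => (hp.out.dvd_mul.1 hd).elim hH (hp.out.coprime_iff_not_dvd.1 hL.symm))
  refine ⟨⟨fun a b => Subtype.ext ?_⟩⟩
  obtain ⟨x, hx⟩ := QuotientGroup.mk'_surjective L a.1
  obtain ⟨y, hy⟩ := QuotientGroup.mk'_surjective L b.1
  show a.1 * b.1 = b.1 * a.1
  rw [← hx, ← hy, ← map_mul, ← map_mul]
  exact congrArg (QuotientGroup.mk' L) (congrArg Subtype.val (mul_comm'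
    (⟨x, by show QuotientGroup.mk' L x ∈ H; rw [hx]; exact a.2⟩ : H.comap (QuotientGroup.mk' L))
    ⟨y, by show QuotientGroup.mk' L y ∈ H; rw [hy]; exact b.2⟩))

theorem main : ∀ (n : ℕ) (G : Type u) [Group G] [Finite G], Nat.card G = n → ∀ P : Sylow p G, IsCyclic P →
    (∀ H : Subgroup G, ¬ p ∣ Nat.card H → IsMulCommutative H) →
    Cfsg.HasNormalPComplement p G ∨ (P : Subgroup G).Normal := by
  intro n
  induction n using Nat.strong_induction_on with
  | _ n ih =>
  intro G _ _ hn P hP hab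
  classical
  by_contra hcon
  push Not at hcon
  obtain ⟨hnc, hnn⟩ := hcon
  obtain ⟨t, htN, htp, htfix⟩ := exists_mover P hP hnc
  -- apply the induction hypothesis to proper subgroups
  have hsub : ∀ (M : Subgroup G) (S : Sylow p M), IsCyclic S → M ≠ ⊤ →
      Cfsg.HasNormalPComplement p M ∨ (S : Subgroup M).Normal := by
    intro M S hS hM
    refine ih _ (hn ▸ lt_of_le_of_ne (Subgroup.card_le_card_group M) fun e => hM (Subgroup.eq_top_of_card_eq M e))
      M rfl S hS fun H hH => ?_
    haveI := hab (H.map M.subtype) (by rwa [card_map_of_injective M.subtype_injective])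
    refine ⟨⟨fun a b => ?_⟩⟩
    have h := congrArg Subtype.val (mul_comm'
      (⟨((a : M) : G), mem_map_of_mem _ a.2⟩ : H.map M.subtype) ⟨((b : M) : G), mem_map_of_mem _ b.2⟩)
    exact Subtype.ext (Subtype.ext h)
  have hcycsub : ∀ (M : Subgroup G) (hle : (P : Subgroup G) ≤ M), IsCyclic (P.subtype hle : Sylow p M) := fun M hle =>
    haveI := hP
    isCyclic_of_injective ((M.subtype.comp (P.subtype hle : Subgroup M).subtype).codRestrict (P : Subgroup G)
      fun x => x.2) fun a b e => Subtype.ext (Subtype.ext (congrArg (fun w : P => (w : G)) e))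
  have hne : (P : Subgroup G) ≠ ⊥ := fun e => hnn (e ▸ inferInstance)
  -- the core of order prime to `p` is trivial
  obtain ⟨hLn, hLc⟩ := CfsgLib.Solvable.pPrimeCore_spec (G := G) (p := p)
  set L := Cfsg.pPrimeCore p G with hLdef
  haveI := hLn
  have hL : L = ⊥ := by
    by_contra hL
    have hPL : ∀ x ∈ (P : Subgroup G), ∀ l ∈ L, Commute x l := by
      have htL : ∀ l ∈ L, Commute t l :=
        commute_of_normalizes hab hLc htp (by rw [normalizer_eq_top]; exact mem_top t)
      have hinj : Function.Injective fun x : P => (⟨(x : G)⁻¹ * (t * x * t⁻¹),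
          mul_mem (inv_mem x.2) ((mem_normalizer_iff.1 htN x).1 x.2)⟩ : P) := by
        intro x y e
        have e' : (x : G)⁻¹ * (t * x * t⁻¹) = (y : G)⁻¹ * (t * y * t⁻¹) := congrArg Subtype.val e
        refine Subtype.ext (mul_inv_eq_one.1 (htfix _ (mul_mem x.2 (inv_mem y.2)) ?_))
        show t * ((x : G) * (y : G)⁻¹) = (x : G) * (y : G)⁻¹ * t
        calc t * ((x : G) * (y : G)⁻¹) = (x : G) * ((x : G)⁻¹ * (t * x * t⁻¹)) * (t * y * t⁻¹)⁻¹ * t := by group
          _ = (x : G) * (y : G)⁻¹ * t := by rw [e']; group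
      intro x hx l hl
      obtain ⟨⟨z, hz⟩, hzx⟩ := (Finite.injective_iff_surjective.1 hinj) ⟨x, hx⟩
      have hxz : x = z⁻¹ * (t * z * t⁻¹) := (congrArg Subtype.val hzx).symm
      have h1 : z * l * z⁻¹ ∈ L := hLn.conj_mem l hl z
      have h2 : t * z * t⁻¹ * l * (t * z * t⁻¹)⁻¹ = z * l * z⁻¹ := by
        calc t * z * t⁻¹ * l * (t * z * t⁻¹)⁻¹ = t * (z * (t⁻¹ * (l * t)) * z⁻¹) * t⁻¹ := by group
          _ = t * (z * l * z⁻¹) * t⁻¹ := by rw [← (htL l hl).eq, inv_mul_cancel_left]
          _ = z * l * z⁻¹ := by rw [(htL _ h1).eq, mul_inv_cancel_right]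
      refine mul_inv_eq_iff_eq_mul.1 (?_ : x * l * x⁻¹ = l)
      calc x * l * x⁻¹ = z⁻¹ * (t * z * t⁻¹ * l * (t * z * t⁻¹)⁻¹) * z := by rw [hxz]; group
        _ = l := by rw [h2]; group
    have hlt : Nat.card (G ⧸ L) < n := by
      rw [← hn, Subgroup.card_eq_card_quotient_mul_card_subgroup L]
      haveI := (Subgroup.nontrivial_iff_ne_bot L).2 hL
      exact lt_mul_of_one_lt_right Nat.card_pos Finite.one_lt_card
    set q := QuotientGroup.mk' L
    let Pb := P.mapSurjective (f := q) (QuotientGroup.mk'_surjective L)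
    have hPb : IsCyclic Pb :=
      haveI := hP
      isCyclic_of_surjective (q.subgroupMap (P : Subgroup G)) (MonoidHom.subgroupMap_surjective _ _)
    rcases ih _ hlt (G ⧸ L) rfl Pb hPb (abel_quotient L hLc hab) with h | h
    · obtain ⟨k, hk⟩ := CfsgLib.PResidual.exists_index_pResidual (G := G ⧸ L) (p := p)
      obtain ⟨hc, hi⟩ := card_preimage L (Cfsg.pResidual p (G ⧸ L))
      refine hnc (CfsgLib.PResidual.hasNormalPComplement_of_normal (p := p)
        (N := (Cfsg.pResidual p (G ⧸ L)).comap q) (k := k) ?_ (hi.trans hk))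
      rw [hc]
      exact (CfsgLib.PResidual.hasNormalPComplement_iff.1 h).mul_left hLc
    · refine hnn ⟨fun x hx g => ?_⟩
      have h1 : q (g * x * g⁻¹) ∈ (P : Subgroup G).map q := by
        rw [map_mul, map_mul, map_inv]
        exact h.conj_mem (q x) (mem_map_of_mem q hx) (q g)
      obtain ⟨y, hy, hye⟩ := h1
      set l := y⁻¹ * (g * x * g⁻¹) with hl'
      have hl : l ∈ L := QuotientGroup.eq.1 hye
      have e : g * x * g⁻¹ = y * l := by rw [hl', mul_inv_cancel_left]
      obtain ⟨k, hk⟩ := IsPGroup.iff_card.1 P.2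
      have hpow : ∀ w ∈ (P : Subgroup G), w ^ p ^ k = 1 := fun w hw =>
        orderOf_dvd_iff_pow_eq_one.1 (hk ▸ Subgroup.orderOf_dvd_natCard _ hw)
      have h2 : l ^ p ^ k = 1 := by
        have h3 : (g * x * g⁻¹) ^ p ^ k = 1 := by rw [conj_pow, hpow x hx, mul_one, mul_inv_cancel]
        rwa [e, (hPL y hy l hl).mul_pow, hpow y hy, one_mul] at h3
      rw [e, eq_one_of_both h2 (hLc.coprime_dvd_left (Subgroup.orderOf_dvd_natCard _ hl)), mul_one]
      exact hy
  have hcore : ∀ M : Subgroup G, M.Normal → (Nat.card M).Coprime p → M = ⊥ := fun M hM hMc =>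
    le_bot_iff.1 (hL ▸ CfsgLib.Solvable.le_pPrimeCore p hM hMc)
  obtain ⟨z₀, hz₀P, hz₀⟩ : ∃ z ∈ (P : Subgroup G), orderOf z = p := by
    haveI : Nontrivial (P : Subgroup G) := (Subgroup.nontrivial_iff_ne_bot _).2 hne
    obtain ⟨x, hx⟩ := exists_ne (1 : (P : Subgroup G))
    obtain ⟨z, hz, hzo⟩ := exists_order_p P x.2 (fun e => hx (Subtype.ext e))
    exact ⟨z, zpowers_le.2 x.2 hz, hzo⟩
  have hz₀1 : z₀ ≠ 1 := fun e => hp.out.one_lt.ne (by rw [← hz₀, e, orderOf_one])
  set Z := zpowers z₀ with hZ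
  have hZP : Z ≤ (P : Subgroup G) := zpowers_le.2 hz₀P
  -- a normal proper subgroup with a normal complement is a `p`-group
  have hnpcM : ∀ M : Subgroup G, M.Normal → Cfsg.HasNormalPComplement p M → IsPGroup p M := by
    intro M hM h
    haveI := hM
    obtain ⟨k, hk⟩ := CfsgLib.PResidual.exists_index_pResidual (G := M) (p := p)
    have hc := CfsgLib.PResidual.hasNormalPComplement_iff.1 h
    have hbot : (Cfsg.pResidual p M).map M.subtype = ⊥ :=
      hcore _ inferInstance (by rwa [card_map_of_injective M.subtype_injective])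
    rw [Subgroup.map_eq_bot_iff_of_injective _ M.subtype_injective] at hbot
    rw [hbot, index_bot] at hk
    exact IsPGroup.of_card hk
  have hZn : ¬ Z.Normal := by
    intro hZn
    haveI := hZn
    set C := centralizer (Z : Set G) with hCdef
    haveI : C.Normal := Subgroup.normal_centralizer
    have hPC : (P : Subgroup G) ≤ C := fun x hx => mem_centralizer_iff.2 fun y hy => by
      haveI := hP
      letI : CommGroup P := IsCyclic.commGroup
      exact congrArg Subtype.val (mul_comm (⟨y, hZP hy⟩ : P) ⟨x, hx⟩)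
    have hC : C ≠ ⊤ := fun e => hz₀1 (htfix z₀ hz₀P
      (mem_centralizer_iff.1 (e ▸ mem_top t : t ∈ C) z₀ (mem_zpowers z₀)).symm)
    rcases hsub C (P.subtype hPC) (hcycsub C hPC) hC with h | h
    · have e : C = (P : Subgroup G) := P.3 (hnpcM C inferInstance h) hPC
      exact hnn (e ▸ inferInstance)
    · haveI := h
      haveI := Sylow.characteristic_of_normal (P.subtype hPC) h
      have e : ((P.subtype hPC : Sylow p C) : Subgroup C).map C.subtype = (P : Subgroup G) :=
        Subgroup.map_subgroupOf_eq_of_le hPC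
      exact hnn (e ▸ inferInstance)
  -- normal subgroups inside `P` would contain `Z`
  have hinP : ∀ M : Subgroup G, M.Normal → M ≠ ⊥ → ¬ M ≤ (P : Subgroup G) := by
    intro M hM hM1 hle
    haveI := (Subgroup.nontrivial_iff_ne_bot M).2 hM1
    obtain ⟨w, hw⟩ := exists_ne (1 : M)
    obtain ⟨v, hv, hvo⟩ := exists_order_p P (hle w.2) (fun e => hw (Subtype.ext e))
    have hvM : v ∈ M := zpowers_le.2 w.2 hv
    have hv1 : v ^ p = 1 := by rw [← hvo, pow_orderOf_eq_one]
    have hz₀v : z₀ ∈ zpowers v := mem_zpowers_of_order_p P hP (hle hvM) hvo hz₀P (by rw [← hz₀, pow_orderOf_eq_one])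
    refine hZn ⟨fun x hx g => mem_zpowers_of_order_p P hP hz₀P hz₀
      (hle (hM.conj_mem x ((zpowers_le.2 ((zpowers_le.2 hvM) hz₀v)) hx) g)) ?_⟩
    obtain ⟨i, rfl⟩ := mem_zpowers_iff.1 hx
    rw [conj_pow, ← zpow_natCast, ← zpow_mul, mul_comm, zpow_mul, zpow_natCast, ← hz₀, pow_orderOf_eq_one,
      one_zpow, mul_one, mul_inv_cancel]
  haveI : Nontrivial G := ⟨⟨z₀, 1, hz₀1⟩⟩
  haveI hsimple : IsSimpleGroup G := IsSimpleGroup.mk fun M hM => by
    by_contra hM'
    push Not at hM'
    obtain ⟨hM1, hM2⟩ := hM'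
    haveI := hM
    obtain ⟨S⟩ := (inferInstance : Nonempty (Sylow p M))
    obtain ⟨g, hg⟩ : ∃ g : G, ∀ x ∈ (S : Subgroup M), g * (x : G) * g⁻¹ ∈ (P : Subgroup G) := by
      obtain ⟨T, hT⟩ := (S.2.map M.subtype).exists_le_sylow
      obtain ⟨g, hg⟩ := MulAction.exists_smul_eq G T P
      refine ⟨g, fun x hx => ?_⟩
      rw [← hg, Sylow.coe_subgroup_smul]
      exact Subgroup.smul_mem_pointwise_smul _ (MulAut.conj g) _ (hT (mem_map_of_mem _ hx))
    have hScyc : IsCyclic S :=
      haveI := hP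
      isCyclic_of_injective (((MulAut.conj g).toMonoidHom.comp (M.subtype.comp (S : Subgroup M).subtype)).codRestrict
        (P : Subgroup G) fun x => hg x x.2) fun a b e => Subtype.ext (Subtype.ext ((MulAut.conj g).injective
          (congrArg (fun w : P => (w : G)) e)))
    rcases hsub M S hScyc hM2 with h | h
    · refine hinP M hM hM1 fun x hx => ?_
      obtain ⟨T, hT⟩ := (hnpcM M hM h).exists_le_sylow
      obtain ⟨c, hc⟩ := MulAction.exists_smul_eq G T P
      have h1 : c * (c⁻¹ * x * c) * c⁻¹ ∈ (P : Subgroup G) := by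
        rw [← hc, Sylow.coe_subgroup_smul]
        refine Subgroup.smul_mem_pointwise_smul _ (MulAut.conj c) _ (hT ?_)
        have := hM.conj_mem x hx c⁻¹
        rwa [inv_inv] at this
      rwa [show c * (c⁻¹ * x * c) * c⁻¹ = x by group] at h1
    · haveI := h
      haveI := Sylow.characteristic_of_normal S h
      by_cases hS : (S : Subgroup M) = ⊥
      · refine hM1 (hcore M hM (hp.out.coprime_iff_not_dvd.2 fun hd => ?_).symm)
        have h2 := S.dvd_card_of_dvd_card hd
        rw [hS, card_bot] at h2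
        exact hp.out.not_dvd_one h2
      refine hinP ((S : Subgroup M).map M.subtype) inferInstance
        (fun e => hS ((Subgroup.map_eq_bot_iff_of_injective _ M.subtype_injective).1 e)) ?_
      rintro _ ⟨x, hx, rfl⟩
      have hS' : ((S : Subgroup M).map M.subtype).Normal := inferInstance
      have h1 := hS'.conj_mem (x : G) (mem_map_of_mem _ hx) g⁻¹
      obtain ⟨w, hw, hwe⟩ := h1
      have h2 := hg w hw
      rw [show ((w : M) : G) = g⁻¹ * (x : G) * g⁻¹⁻¹ from hwe, inv_inv] at h2
      rwa [show g * (g⁻¹ * (x : G) * g) * g⁻¹ = (x : G) by group] at h2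
  have hncomm : ¬ IsMulCommutative G := fun h => hz₀1 (htfix z₀ hz₀P (h.is_comm.comm t z₀))
  -- the normaliser of `Z`
  set N := normalizer (Z : Set G) with hN
  have hNtop : N ≠ ⊤ := fun e => hZn (normalizer_eq_top_iff.1 e)
  have hPN : (P : Subgroup G) ≤ N := fun x hx => by
    refine centralizer_le_normalizer _ (mem_centralizer_iff.2 fun y hy => ?_)
    haveI := hP
    letI : CommGroup P := IsCyclic.commGroup
    exact congrArg Subtype.val (mul_comm (⟨y, hZP hy⟩ : P) ⟨x, hx⟩)
  have hZinv : ∀ g : G, g * z₀ * g⁻¹ ∈ (P : Subgroup G) → g ∈ N := fun g hg => by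
    have h1 : g * z₀ * g⁻¹ ∈ Z := mem_zpowers_of_order_p P hP hz₀P hz₀ hg
      (by rw [conj_pow, ← hz₀, pow_orderOf_eq_one, mul_one, mul_inv_cancel])
    have hle : Z.map (MulAut.conj g).toMonoidHom ≤ Z := by
      rintro _ ⟨w, hw, rfl⟩
      obtain ⟨i, rfl⟩ := mem_zpowers_iff.1 hw
      rw [map_zpow]
      exact zpow_mem (by simpa using h1) i
    have heq : Z.map (MulAut.conj g).toMonoidHom = Z :=
      eq_of_le_of_card_ge hle (by rw [card_map_of_injective (MulAut.conj g).injective])
    refine mem_normalizer_iff.2 fun w => ⟨fun hw => hle ⟨w, hw, by simp⟩, fun hw => ?_⟩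
    obtain ⟨v, hv, hve⟩ := heq.ge hw
    simp only [MulEquiv.coe_toMonoidHom, MulAut.conj_apply] at hve
    rwa [← mul_left_cancel (mul_right_cancel hve)]
  -- a proper subgroup containing `P` and `t` normalises `P`
  have hlocal : ∀ M : Subgroup G, M ≠ ⊤ → (P : Subgroup G) ≤ M → t ∈ M →
      M ≤ normalizer ((P : Subgroup G) : Set G) := by
    intro M hM hPM htM
    rcases hsub M (P.subtype hPM) (hcycsub M hPM) hM with h | h
    · exfalso
      refine hz₀1 (htfix z₀ hz₀P ?_)
      have hKc := CfsgLib.PResidual.hasNormalPComplement_iff.1 h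
      have htR : (⟨t, htM⟩ : M) ∈ Cfsg.pResidual p M :=
        CfsgLib.PResidual.mem_pResidual p (by rwa [← Subgroup.orderOf_coe])
      set c : M := ⟨t, htM⟩ * ⟨z₀, hPM hz₀P⟩ * ⟨t, htM⟩⁻¹ * ⟨z₀, hPM hz₀P⟩⁻¹ with hc
      have hcR : c ∈ Cfsg.pResidual p M := by
        have h1 : (⟨z₀, hPM hz₀P⟩ : M) * ⟨t, htM⟩⁻¹ * ⟨z₀, hPM hz₀P⟩⁻¹ ∈ Cfsg.pResidual p M :=
          Normal.conj_mem inferInstance _ (inv_mem htR) _
        have h2 := mul_mem htR h1
        rwa [← mul_assoc, ← mul_assoc] at h2
      have hcP : (c : G) ∈ (P : Subgroup G) := mul_mem ((mem_normalizer_iff.1 htN z₀).1 hz₀P) (inv_mem hz₀P)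
      obtain ⟨k, hk, -⟩ := pow_card_sylow P hcP
      have h3 : c = 1 := eq_one_of_both (Subtype.ext (by simpa using hk))
        (hKc.coprime_dvd_left (Subgroup.orderOf_dvd_natCard _ hcR))
      exact mul_inv_eq_iff_eq_mul.1 (mul_inv_eq_one.1 (congrArg Subtype.val h3))
    · intro g hg
      have hconj : ∀ g ∈ M, ∀ w ∈ (P : Subgroup G), g * w * g⁻¹ ∈ (P : Subgroup G) := fun g hg w hw =>
        h.conj_mem (⟨w, hPM hw⟩ : M) hw ⟨g, hg⟩
      refine mem_normalizer_iff.2 fun w => ⟨hconj g hg w, fun hw => ?_⟩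
      have := hconj g⁻¹ (inv_mem hg) _ hw
      rwa [inv_inv, show g⁻¹ * (g * w * g⁻¹) * g = w by group] at this
  have hNP : N ≤ normalizer ((P : Subgroup G) : Set G) :=
    hlocal N hNtop hPN (hZinv t ((mem_normalizer_iff.1 htN z₀).1 hz₀P))
  have hp2 : p ≠ 2 := by
    intro e
    refine hz₀1 (htfix z₀ hz₀P ?_)
    refine CfsgLib.FGSBSmall.commute_of_totient ?_ ?_
    · exact mem_zpowers_of_order_p P hP hz₀P hz₀ ((mem_normalizer_iff.1 htN z₀).1 hz₀P)
        (by rw [conj_pow, ← hz₀, pow_orderOf_eq_one, mul_one, mul_inv_cancel])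
    · rw [hz₀, e, Nat.totient_two]; exact Nat.coprime_one_right _
  have D : Data p P := {
    odd := hp2
    simple := hsimple
    ncomm := hncomm
    cyc := hP
    abel := hab
    ne_bot := hne
    meet := fun g x hx hx1 hgx => by
      obtain ⟨v, hv, hvo⟩ := exists_order_p P hx hx1
      obtain ⟨i, hi⟩ := mem_zpowers_iff.1 hv
      have hvP : v ∈ (P : Subgroup G) := zpowers_le.2 hx hv
      obtain ⟨j, hj⟩ := mem_zpowers_iff.1
        (mem_zpowers_of_order_p P hP hvP hvo hz₀P (by rw [← hz₀, pow_orderOf_eq_one]))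
      refine hNP (hZinv g ?_)
      rw [← hj, ← hi, ← conj_zpow, ← conj_zpow]
      exact zpow_mem (zpow_mem hgx i) j
    mover := ⟨t, htN, htp, htfix⟩
    centralizer_le := fun y hy hy1 hyP => by
      have hPy : (P : Subgroup G) ≤ centralizer ({y} : Set G) := fun x hx =>
        mem_centralizer_singleton_iff.2 (hyP x hx).eq.symm
      have hyN : y ∈ normalizer ((P : Subgroup G) : Set G) := centralizer_le_normalizer _
        (mem_centralizer_iff.2 fun x hx => (hyP x hx).eq.symm)
      have hty : Commute t y := by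
        set A := centralizer ((P : Subgroup G) : Set G) with hA
        have hPA : (P : Subgroup G) ≤ A := fun x hx => mem_centralizer_iff.2 fun w hw => by
          haveI := hP
          letI : CommGroup P := IsCyclic.commGroup
          exact congrArg Subtype.val (mul_comm (⟨w, hw⟩ : P) ⟨x, hx⟩)
        have hnpc : Cfsg.HasNormalPComplement p A := by
          refine CfsgLib.TransferBasic.hasNormalPComplement_of_le_centralizer (P.subtype hPA) fun g _ => ?_
          exact mem_centralizer_iff.2 fun w hw => Subtype.ext (mem_centralizer_iff.1 g.2 (w : G) hw)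
        set K := (Cfsg.pResidual p A).map A.subtype with hK
        have hKcop : (Nat.card K).Coprime p := by
          rw [hK, card_map_of_injective A.subtype_injective]
          exact CfsgLib.PResidual.hasNormalPComplement_iff.1 hnpc
        have hyK : y ∈ K := ⟨⟨y, mem_centralizer_iff.2 fun x hx => (hyP x hx).eq.symm⟩,
          CfsgLib.PResidual.mem_pResidual p (by rw [← Subgroup.orderOf_coe]; exact hy), rfl⟩
        have hconjK : ∀ g ∈ normalizer ((P : Subgroup G) : Set G), ∀ w ∈ K, g * w * g⁻¹ ∈ K := by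
          intro g hg w hw
          obtain ⟨w', hw', rfl⟩ := hw
          have hm : g * (w' : G) * g⁻¹ ∈ A := mem_centralizer_iff.2 fun x hx => by
            have h3 := mem_centralizer_iff.1 w'.2 _ ((mem_normalizer_iff''.1 hg x).1 hx)
            calc x * (g * (w' : G) * g⁻¹) = g * (g⁻¹ * x * g * w') * g⁻¹ := by group
              _ = g * (w' : G) * g⁻¹ * x := by rw [h3]; group
          refine ⟨⟨_, hm⟩, CfsgLib.PResidual.mem_pResidual p ?_, rfl⟩
          rw [← Subgroup.orderOf_coe]
          show (orderOf (g * (w' : G) * g⁻¹)).Coprime p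
          rw [← MulAut.conj_apply, MulEquiv.orderOf_eq]
          exact hKcop.coprime_dvd_left (Subgroup.orderOf_dvd_natCard _ (mem_map_of_mem _ hw'))
        refine commute_of_normalizes hab hKcop htp (mem_normalizer_iff.2 fun w => ⟨hconjK t htN w, fun hw => ?_⟩) y hyK
        have := hconjK t⁻¹ (inv_mem htN) _ hw
        rwa [inv_inv, show t⁻¹ * (t * w * t⁻¹) * t = w by group] at this
      refine hlocal _ (fun e => ?_) hPy (mem_centralizer_singleton_iff.2 hty)
      have hyc : y ∈ center G := mem_center_iff.2 fun g =>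
        mem_centralizer_singleton_iff.1 (e ▸ mem_top g : g ∈ centralizer ({y} : Set G))
      rcases IsSimpleGroup.eq_bot_or_eq_top_of_normal (center G) inferInstance with h | h
      · exact hy1 (mem_bot.1 (h ▸ hyc))
      · exact hncomm ⟨⟨fun a b => mem_center_iff.1 (h ▸ mem_top b : b ∈ center G) a⟩⟩ }
  by_cases hD : ∀ y : G, (orderOf y).Coprime p → (∀ x ∈ (P : Subgroup G), Commute y x) → y = 1
  · exact selfCentralizing_false D hD
  · push Not at hD
    obtain ⟨y, hy, hyP, hy1⟩ := hD
    exact centralized_false D hy hy1 hyP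

end CfsgLib.CyclicAbelian
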